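import Cfsg.Agent.Lib.Transfer.Abelian
import Cfsg.Agent.Lib.Transfer.PResidual
import Cfsg.Agent.Lib.ZStar.Main
import Mathlib.GroupTheory.Transfer

/-!
# Abelian Sylow two-subgroups with inertial index a prime

The normalizer of `P` acts on `P` through a group of prime order, so outside the fixed part every
element of `P` has a centralizer with a normal two-complement.
-/

set_option autoImplicit false

namespace CfsgLib.PrimeInertial

open Cfsg

universe u

variable {G : Type u} [Group G] [Finite G]

/-- The order of the group induced by the normalizer. -/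
noncomputable def index (H : Subgroup G) : ℕ :=
  (Subgroup.centralizer (H : Set G)).relIndex (Subgroup.normalizer (H : Set G))

/-- The elements of `H` fixed by the normalizer of `H`. -/
def fixed (H : Subgroup G) : Subgroup G :=
  H ⊓ Subgroup.centralizer ((Subgroup.normalizer (H : Set G) : Subgroup G) : Set G)

variable {P : Sylow 2 G}

theorem mem_fixed {x : G} : x ∈ fixed (P : Subgroup G) ↔
    x ∈ (P : Subgroup G) ∧
      ∀ n ∈ Subgroup.normalizer ((P : Subgroup G) : Set G), n * x * n⁻¹ = x := by
  rw [fixed, Subgroup.mem_inf, Subgroup.mem_centralizer_iff]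
  exact and_congr_right fun _ => forall₂_congr fun n _ => mul_inv_eq_iff_eq_mul.symm

theorem centralizer_le_normalizer (H : Subgroup G) :
    Subgroup.centralizer (H : Set G) ≤ Subgroup.normalizer (H : Set G) := fun g hg =>
  Subgroup.mem_normalizer_iff.2 fun x => by
    constructor <;> intro hx
    · rwa [(Subgroup.mem_centralizer_iff.1 hg x hx).symm, mul_inv_cancel_right]
    · have h := Subgroup.mem_centralizer_iff.1 (inv_mem hg) _ hx
      have : x = g * x * g⁻¹ := by
        calc x = g⁻¹ * (g * x * g⁻¹) * g := by group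
          _ = (g * x * g⁻¹) * g⁻¹ * g := by rw [← h]
          _ = g * x * g⁻¹ := by group
      rwa [this]

/-- The elements of the normalizer act as powers of one of them. -/
theorem exists_pow {H : Subgroup G} (he : (index H).Prime) {t : G}
    (ht : t ∈ Subgroup.normalizer (H : Set G)) (ht' : t ∉ Subgroup.centralizer (H : Set G)) {n : G}
    (hn : n ∈ Subgroup.normalizer (H : Set G)) :
    ∃ i : ℤ, n * t ^ i ∈ Subgroup.centralizer (H : Set G) := by
  set N := Subgroup.normalizer (H : Set G)
  set f := Subgroup.normalizerMonoidHom H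
  have hf : ∀ x : N, f x = 1 ↔ (x : G) ∈ Subgroup.centralizer (H : Set G) := fun x => by
    rw [← MonoidHom.mem_ker, Subgroup.normalizerMonoidHom_ker, Subgroup.mem_subgroupOf]
  have hcard : Nat.card f.range = index H := by
    rw [← Subgroup.index_ker, Subgroup.normalizerMonoidHom_ker]
    rfl
  have : Fact (index H).Prime := ⟨he⟩
  have htop : Subgroup.zpowers (⟨f ⟨t, ht⟩, ⟨⟨t, ht⟩, rfl⟩⟩ : f.range) = ⊤ :=
    zpowers_eq_top_of_prime_card hcard fun h => ht' ((hf ⟨t, ht⟩).1 (congrArg Subtype.val h))
  obtain ⟨i, hi⟩ := Subgroup.mem_zpowers_iff.1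
    (htop ▸ Subgroup.mem_top (⟨f ⟨n, hn⟩, ⟨⟨n, hn⟩, rfl⟩⟩ : f.range))
  refine ⟨-i, (hf (⟨n, hn⟩ * ⟨t, ht⟩ ^ (-i))).1 ?_⟩
  have hval : f ⟨n, hn⟩ = f ⟨t, ht⟩ ^ i := (congrArg Subtype.val hi).symm
  rw [map_mul, map_zpow, hval, ← zpow_add, add_neg_cancel, zpow_zero]

/-- An element fixed by one automorphism outside the centralizer is fixed by the normalizer. -/
theorem mem_fixed_of_fix (he : (index (P : Subgroup G)).Prime) {x : G} (hx : x ∈ (P : Subgroup G))
    {t : G} (ht : t ∈ Subgroup.normalizer ((P : Subgroup G) : Set G))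
    (ht' : t ∉ Subgroup.centralizer ((P : Subgroup G) : Set G)) (hfix : t * x * t⁻¹ = x) :
    x ∈ fixed (P : Subgroup G) := by
  refine mem_fixed.2 ⟨hx, fun n hn => ?_⟩
  obtain ⟨i, hi⟩ := exists_pow he ht ht' hn
  have hc : Commute (t ^ i) x := Commute.zpow_left (mul_inv_eq_iff_eq_mul.1 hfix) i
  have h : x * (n * t ^ i) = n * t ^ i * x := Subgroup.mem_centralizer_iff.1 hi x hx
  rw [mul_assoc n, hc.eq, ← mul_assoc, ← mul_assoc] at h
  rw [mul_inv_eq_iff_eq_mul]
  exact (mul_right_cancel h).symm

/-- The automorphisms induced by the normalizer outside the centralizer fix no nontrivial element. -/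
def IsFreeAction (P : Sylow 2 G) : Prop :=
  ∀ n ∈ Subgroup.normalizer ((P : Subgroup G) : Set G), ∀ x ∈ (P : Subgroup G), x ≠ 1 →
    n * x * n⁻¹ = x → n ∈ Subgroup.centralizer ((P : Subgroup G) : Set G)

theorem isFreeAction_of_fixed (he : (index (P : Subgroup G)).Prime)
    (hQ : fixed (P : Subgroup G) = ⊥) : IsFreeAction P := fun n hn x hx hx1 h => by
  by_contra hC
  have := mem_fixed_of_fix he hx hn hC h
  rw [hQ, Subgroup.mem_bot] at this
  exact hx1 this

variable (hab : IsMulCommutative (P : Subgroup G))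
include hab

theorem le_centralizer_self : (P : Subgroup G) ≤ Subgroup.centralizer ((P : Subgroup G) : Set G) :=
  fun a ha => Subgroup.mem_centralizer_iff.2 fun b hb =>
    congrArg Subtype.val (hab.is_comm.comm (⟨b, hb⟩ : (P : Subgroup G)) ⟨a, ha⟩)

theorem le_centralizer_singleton {x : G} (hx : x ∈ (P : Subgroup G)) :
    (P : Subgroup G) ≤ Subgroup.centralizer ({x} : Set G) := fun a ha => by
  rw [Subgroup.mem_centralizer_iff]
  rintro y rfl
  exact congrArg Subtype.val (hab.is_comm.comm (⟨y, hx⟩ : (P : Subgroup G)) ⟨a, ha⟩)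

/-- The centralizer of an element fixed by no automorphism outside the centralizer has a normal
two-complement. -/
theorem hasNormalPComplement_centralizer_of_fix {x : G} (hx : x ∈ (P : Subgroup G))
    (hfix : ∀ n ∈ Subgroup.normalizer ((P : Subgroup G) : Set G), n * x * n⁻¹ = x →
      n ∈ Subgroup.centralizer ((P : Subgroup G) : Set G)) :
    HasNormalPComplement 2 (Subgroup.centralizer ({x} : Set G)) := by
  set C := Subgroup.centralizer ({x} : Set G) with hC
  let P' : Sylow 2 C := P.subtype (le_centralizer_singleton hab hx)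
  have hN : Subgroup.normalizer ((P' : Subgroup C) : Set C) ≤
      Subgroup.centralizer ((P' : Subgroup C) : Set C) := by
    intro n hn
    have hnG : (n : G) ∈ Subgroup.normalizer ((P : Subgroup G) : Set G) := by
      have key : ∀ m : C, m ∈ Subgroup.normalizer ((P' : Subgroup C) : Set C) →
          ∀ y ∈ (P : Subgroup G), (m : G) * y * (m : G)⁻¹ ∈ (P : Subgroup G) := fun m hm y hy =>
        (Subgroup.mem_normalizer_iff.1 hm ⟨y, le_centralizer_singleton hab hx hy⟩).1 hy
      refine Subgroup.mem_normalizer_iff.2 fun y => ⟨key n hn y, fun hy => ?_⟩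
      have := key n⁻¹ (inv_mem hn) _ hy
      simpa [mul_assoc] using this
    have hnC : (n : G) ∈ Subgroup.centralizer ((P : Subgroup G) : Set G) := by
      exact hfix _ hnG (mul_inv_eq_iff_eq_mul.2 (Subgroup.mem_centralizer_singleton_iff.1 n.2))
    exact Subgroup.mem_centralizer_iff.2 fun y hy =>
      Subtype.ext (Subgroup.mem_centralizer_iff.1 hnC y hy)
  exact ⟨P', (MonoidHom.transferSylow P' hN).ker, inferInstance,
    MonoidHom.ker_transferSylow_isComplement' P' hN⟩

/-- The centralizer of an element outside the fixed part has a normal two-complement. -/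
theorem hasNormalPComplement_centralizer (he : (index (P : Subgroup G)).Prime) {x : G}
    (hx : x ∈ (P : Subgroup G)) (hxQ : x ∉ fixed (P : Subgroup G)) :
    HasNormalPComplement 2 (Subgroup.centralizer ({x} : Set G)) :=
  hasNormalPComplement_centralizer_of_fix hab hx fun _ hn h => by
    by_contra hC
    exact hxQ (mem_fixed_of_fix he hx hn hC h)

/-- `P` is the product of `[P, N(P)]` and the fixed part, and they meet trivially. -/
theorem commutator_inf_fixed :
    ⁅(P : Subgroup G), Subgroup.normalizer ((P : Subgroup G) : Set G)⁆ ⊓ fixed (P : Subgroup G) = ⊥ ∧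
      ⁅(P : Subgroup G), Subgroup.normalizer ((P : Subgroup G) : Set G)⁆ ⊔ fixed (P : Subgroup G) =
        (P : Subgroup G) :=
  CfsgLib.Transfer.commutator_normalizer_inf_sup P hab

/-- An element fixed modulo the fixed part is in the fixed part. -/
theorem fix_of_commutator_mem {x n : G} (hx : x ∈ (P : Subgroup G))
    (hn : n ∈ Subgroup.normalizer ((P : Subgroup G) : Set G))
    (h : x⁻¹ * (n * x * n⁻¹) ∈ fixed (P : Subgroup G)) : n * x * n⁻¹ = x := by
  have h1 : x⁻¹ * (n * x * n⁻¹) ∈
      ⁅(P : Subgroup G), Subgroup.normalizer ((P : Subgroup G) : Set G)⁆ := by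
    have := Subgroup.commutator_mem_commutator (inv_mem hx) hn
    simpa [commutatorElement_def, mul_assoc] using this
  have h2 : x⁻¹ * (n * x * n⁻¹) = 1 :=
    Subgroup.mem_bot.1 ((commutator_inf_fixed hab).1.le ⟨h1, h⟩)
  rw [inv_mul_eq_one] at h2
  exact h2.symm

theorem odd_index : Odd (index (P : Subgroup G)) := by
  rw [← Nat.not_even_iff_odd, even_iff_two_dvd]
  intro h
  have h1 : index (P : Subgroup G) ∣ (P : Subgroup G).relIndex
      (Subgroup.normalizer ((P : Subgroup G) : Set G)) :=
    Subgroup.relIndex_dvd_of_le_left _ (le_centralizer_self hab)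
  exact P.not_dvd_index (h.trans (h1.trans
    (Subgroup.relIndex_dvd_index_of_le Subgroup.le_normalizer)))

/-- An element of `P` fixed by the normalizer is central when the odd core is trivial. -/
theorem fixed_le_center_aux (hO : oddCore G = ⊥) {x : G} (hx : x ∈ fixed (P : Subgroup G))
    (hx2 : orderOf x = 2) : x ∈ Subgroup.center G := by
  obtain ⟨hxP, hfix⟩ := mem_fixed.1 hx
  have huniq : ∀ h : G, h⁻¹ * x * h ∈ (P : Subgroup G) → h⁻¹ * x * h = x := by
    intro h hh
    obtain ⟨n, hn, hne⟩ := CfsgLib.Transfer.exists_normalizer_conj_of_isMulCommutative P hab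
      (X := {x}) (Set.singleton_subset_iff.2 hxP) (g := h)
      (by rw [Set.image_singleton]; exact Set.singleton_subset_iff.2 hh)
    rw [← hne x rfl]
    have := hfix n⁻¹ (inv_mem hn)
    rwa [inv_inv] at this
  have hiso : IsIsolatedInvolution x := by
    refine ⟨hx2, fun g hg => ?_⟩
    have hmem : g * x * g⁻¹ ∈ Subgroup.centralizer ({x} : Set G) :=
      Subgroup.mem_centralizer_singleton_iff.2 hg.symm.eq
    have hg2 : orderOf (⟨_, hmem⟩ : Subgroup.centralizer ({x} : Set G)) = 2 ^ 1 := by
      rw [← Subgroup.orderOf_coe, pow_one]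
      exact (MulEquiv.orderOf_eq (MulAut.conj g) x).trans hx2
    obtain ⟨S, hS⟩ := (IsPGroup.of_card (p := 2) (n := 1)
      (show Nat.card (Subgroup.zpowers (⟨_, hmem⟩ : Subgroup.centralizer ({x} : Set G))) = 2 ^ 1 by
        rw [Nat.card_zpowers, hg2])).exists_le_sylow
    obtain ⟨h, hh⟩ := MulAction.exists_smul_eq (Subgroup.centralizer ({x} : Set G)) S
      (P.subtype (le_centralizer_singleton hab hxP))
    have h1 : (h : G) * (g * x * g⁻¹) * (h : G)⁻¹ ∈ (P : Subgroup G) := by
      have : h * (⟨_, hmem⟩ : Subgroup.centralizer ({x} : Set G)) * h⁻¹ ∈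
          ((h • S : Sylow 2 (Subgroup.centralizer ({x} : Set G))) :
            Subgroup (Subgroup.centralizer ({x} : Set G))) :=
        ⟨_, hS (Subgroup.mem_zpowers _), rfl⟩
      rw [hh] at this
      exact this
    have hhx : (h : G) * x * (h : G)⁻¹ = x :=
      mul_inv_eq_iff_eq_mul.2 (Subgroup.mem_centralizer_singleton_iff.1 h.2)
    have h2 : (h : G) * (g * x * g⁻¹) * (h : G)⁻¹ = x := by
      have e : (h : G) * (g * x * g⁻¹) * (h : G)⁻¹ =
          ((h : G) * g)⁻¹⁻¹ * x * ((h : G) * g)⁻¹ := by group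
      rw [e] at h1 ⊢
      exact huniq _ h1
    calc g * x * g⁻¹ = (h : G)⁻¹ * ((h : G) * (g * x * g⁻¹) * (h : G)⁻¹) * h := by group
      _ = (h : G)⁻¹ * ((h : G) * x * (h : G)⁻¹) * h := by rw [h2, hhx]
      _ = x := by group
  refine Subgroup.mem_center_iff.2 fun g => ?_
  have h := CfsgLib.ZStar.mem_oddCore_of_isolated hiso g
  rw [hO, Subgroup.mem_bot, mul_inv_eq_one, mul_inv_eq_iff_eq_mul] at h
  exact h.symm

end CfsgLib.PrimeInertial
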