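import Cfsg.Agent.Lib.Blocks.AlperinDade
import Cfsg.Agent.Lib.Known.SL2Char.PSLDegrees
import Cfsg.Agent.Lib.Known.SL2Char.TableSLEven
import Cfsg.Agent.Lib.Known.SL2Char.TableGL
import Cfsg.Agent.Lib.Known.SL2Char.DefiningBlocks

/-!
# The principal two-block of `SL₂(2ⁿ)`

All `q` characters of odd degree lie in the principal two-block, since the classes of the nontrivial
elements of odd order have even size.
-/

set_option autoImplicit false

namespace CfsgLib.PrimeInertial

open Cfsg CfsgLib.Blocks CfsgLib.SL2Char CfsgLib.PLocal.SLTwo Matrix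

theorem card_le_card_principalBlock_S2 {F : Type*} [Field F] [Fintype F]
    (heven : Even (Fintype.card F)) (M : Ideal AlgInt) (hM : IsPModular 2 M) :
    Fintype.card F ≤ Nat.card (principalBlock M (S2 F)) := by
  classical
  have := hM.2.1.isPrime
  have h2f : Fact (Nat.Prime 2) := ⟨Nat.prime_two⟩
  have := Fintype.ofFinite (Orbits (⊥ : Subgroup Fˣ))
  have := Fintype.ofFinite (Matrix.GeneralLinearGroup (Fin 2) F)
  have := Fintype.ofFinite (IrrCharacter (S2 F))
  obtain ⟨g₀, hg₀⟩ := exists_elliptic (F := F)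
  obtain ⟨ψ, hψ⟩ := exists_addChar (F := F)
  obtain ⟨P, C, -, -, vP, vC, cP, cC, cU, hall⟩ := tableSLEven hg₀ hψ heven
  obtain ⟨p, hp⟩ := CharP.exists F
  obtain ⟨d, hpp, hd⟩ := FiniteField.card F p
  obtain rfl : p = 2 := ((Nat.prime_dvd_prime_iff_eq Nat.prime_two hpp).1
    (Nat.prime_two.dvd_of_dvd_pow (hd ▸ heven.two_dvd))).symm
  have hcent : ∀ t : S2 F, orderOf t = 2 →
      Nat.card (Subgroup.centralizer ({t} : Set (S2 F))) = Fintype.card F := by
    intro t ht
    have ht2 : t ^ 2 = 1 := orderOf_dvd_iff_pow_eq_one.1 ht.dvd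
    obtain ⟨h, b, hb, hbe⟩ := exists_conj_U_ne (fun e => by simp [e] at ht)
      (tr_eq_two_of_pow_p (p := 2) ht2)
    rw [← Nat.card_eq_fintype_card]
    conv_rhs => rw [← one_mul (Nat.card F), ← card_sqrt_one_even (F := F)]
    rw [← card_centralizer_U hb, ← hbe, ← map_conj_centralizer h t,
      Subgroup.card_map_of_injective (MulEquiv.injective _)]
  have hidx : ∀ g : S2 F, g ≠ 1 → ¬ 2 ∣ orderOf g →
      2 ∣ (Subgroup.centralizer ({g} : Set (S2 F))).index := by
    intro g hg1 hg
    by_contra hodd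
    have h1 := (Subgroup.centralizer ({g} : Set (S2 F))).card_mul_index
    have hG : 2 ∣ Nat.card (S2 F) :=
      (show orderOf (U (1 : F)) = 2 from orderOf_U_one) ▸ orderOf_dvd_natCard _
    rw [← h1] at hG
    obtain ⟨t, ht⟩ := exists_prime_orderOf_dvd_card' 2 ((Nat.prime_two.dvd_mul.1 hG).resolve_right hodd)
    have ht' : orderOf (t : S2 F) = 2 := by rw [Subgroup.orderOf_coe, ht]
    have hgt : g ∈ Subgroup.centralizer ({(t : S2 F)} : Set (S2 F)) :=
      Subgroup.mem_centralizer_singleton_iff.2 (Subgroup.mem_centralizer_singleton_iff.1 t.2).symm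
    have hdvd : orderOf g ∣ Fintype.card F := hcent _ ht' ▸ Subgroup.orderOf_dvd_natCard _ hgt
    rw [hd] at hdvd
    obtain ⟨i, -, hi⟩ := (Nat.dvd_prime_pow Nat.prime_two).1 hdvd
    rcases Nat.eq_zero_or_pos i with rfl | hi0
    · exact hg1 (orderOf_eq_one_iff.1 (by simpa using hi))
    · exact hg (hi ▸ dvd_pow_self 2 hi0.ne')
  have hmem : ∀ χ : IrrCharacter (S2 F), ¬ 2 ∣ charDegree (χ : S2 F → ℂ) →
      χ ∈ principalBlock M (S2 F) := by
    intro χ hχ
    refine mem_principalBlock_of_rv hM hχ fun g hg hi => ?_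
    obtain rfl : g = 1 := by
      by_contra h
      exact hi (hidx g h hg)
    rw [apply_one_eq_charDegree, rv_natCast]
  set U₀ : Finset (S2 F → ℂ) := ({(1 : S2 F → ℂ), stSL} ∪ P ∪ C : Finset (S2 F → ℂ)) with hT
  have hTst : stSL ∈ U₀ := by simp [hT]
  have hirr : ∀ f ∈ U₀, IsIrrCharacter (S2 F) f := fun f hf => (hall f).2 (by
    simpa [hT, or_assoc] using hf)
  have hodd : ∀ f ∈ U₀.erase stSL, ∃ n : ℕ, f 1 = (n : ℂ) ∧ ¬ 2 ∣ n := by
    intro f hf
    obtain ⟨hne, hf⟩ := Finset.mem_erase.1 hf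
    have hq : 2 ∣ Fintype.card F := heven.two_dvd
    have hpos : 1 ≤ Fintype.card F := Fintype.card_pos
    simp only [hT, Finset.mem_union, Finset.mem_insert, Finset.mem_singleton] at hf
    rcases hf with ((rfl | rfl) | h) | h
    · exact ⟨1, by simp, by norm_num⟩
    · exact absurd rfl hne
    · exact ⟨Fintype.card F + 1, by rw [(vP f h).2]; push_cast; ring, by omega⟩
    · exact ⟨Fintype.card F - 1, by rw [(vC f h).2, Nat.cast_sub hpos]; push_cast; ring, by omega⟩
  let Φ : {f // f ∈ U₀.erase stSL} → principalBlock M (S2 F) := fun f =>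
    ⟨⟨f.1, hirr f.1 (Finset.mem_of_mem_erase f.2)⟩, hmem _ (by
      obtain ⟨n, hn, hn2⟩ := hodd f.1 f.2
      rwa [charDegree_natCast hn])⟩
  have hinj : Function.Injective Φ := fun f g h =>
    Subtype.ext (congrArg (fun x : principalBlock M (S2 F) => ((x : IrrCharacter (S2 F)) : S2 F → ℂ)) h)
  have hcard := Nat.card_le_card_of_injective Φ hinj
  rw [Nat.card_eq_fintype_card (α := {f // f ∈ U₀.erase stSL}), Fintype.card_coe,
    Finset.card_erase_of_mem hTst, cU] at hcard
  omega

theorem card_le_card_principalBlock {K : Type*} [Group K] [Finite K] {F : Type} [Field F]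
    [Fintype F] (heven : Even (Fintype.card F))
    (e : K ≃* Matrix.ProjectiveSpecialLinearGroup (Fin 2) F) (M : Ideal AlgInt)
    (hM : IsPModular 2 M) : Fintype.card F ≤ Nat.card (principalBlock M K) := by
  classical
  have := hM.2.1.isPrime
  obtain ⟨p, hp⟩ := CharP.exists F
  obtain ⟨d, hpp, hd⟩ := FiniteField.card F p
  obtain rfl : p = 2 := ((Nat.prime_dvd_prime_iff_eq Nat.prime_two hpp).1
    (Nat.prime_two.dvd_of_dvd_pow (hd ▸ heven.two_dvd))).symm
  have hbot : Subgroup.center (S2 F) = ⊥ := eq_bot_iff.2 fun x hx => by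
    rcases eq_one_or_neg_one_of_mem_center hx with rfl | rfl
    · exact one_mem _
    · exact Subgroup.mem_bot.2 (Subtype.ext (Matrix.ext fun i j => by
        simp [CharTwo.neg_eq]))
  let π : S2 F ≃* Matrix.ProjectiveSpecialLinearGroup (Fin 2) F :=
    MulEquiv.ofBijective (QuotientGroup.mk' (Subgroup.center (S2 F)))
      ⟨(MonoidHom.ker_eq_bot_iff _).1 (by rw [QuotientGroup.ker_mk', hbot]),
        QuotientGroup.mk'_surjective _⟩
  let f : K ≃* S2 F := e.trans π.symm
  refine (card_le_card_principalBlock_S2 heven M hM).trans ?_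
  refine Nat.card_le_card_of_injective
    (fun θ : principalBlock M (S2 F) =>
      (⟨pullEquiv f θ.1, AlperinDade.pullEquiv_mem_principalBlock f θ.2⟩ : principalBlock M K))
    fun a b h => ?_
  refine Subtype.ext (Subtype.ext (funext fun x => ?_))
  have := congrArg (fun θ : principalBlock M K => ((θ : IrrCharacter K) : K → ℂ) (f.symm x)) h
  simpa using this

end CfsgLib.PrimeInertial
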