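import Cfsg.Agent.Lib.Lie.Suzuki.Borel
import Cfsg.Agent.Lib.PGroups.Suzuki.LinearThreeFour
import Cfsg.Agent.Lib.Fusion.TwoTypes.PSLTwoSylow

/-!
# Simple groups with non-abelian Sylow two-subgroups

`Sz(q)`, `A₇` and `PSL₃(4)` have non-abelian Sylow two-subgroups, and an abelian one of `PSL₂(q)` for
odd `q` has order four.
-/

set_option autoImplicit false

namespace CfsgLib.PrimeInertial

open Cfsg
open scoped MatrixGroups

universe u

variable {G : Type u} [Group G] [Finite G]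

/-- Two elements of a two-subgroup commute when some Sylow two-subgroup is commutative. -/
theorem commute_of_mem_isPGroup (P : Sylow 2 G) (hab : IsMulCommutative (P : Subgroup G))
    {H : Subgroup G} (hH : IsPGroup 2 H) {a b : G} (ha : a ∈ H) (hb : b ∈ H) : a * b = b * a := by
  have : Fact (Nat.Prime 2) := ⟨Nat.prime_two⟩
  obtain ⟨S, hS⟩ := hH.exists_le_sylow
  let e : (S : Subgroup G) ≃* (P : Subgroup G) := S.equiv P
  have h := e.injective (show e (⟨a, hS ha⟩ * ⟨b, hS hb⟩) = e (⟨b, hS hb⟩ * ⟨a, hS ha⟩) by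
    rw [map_mul, map_mul]; exact hab.is_comm.comm _ _)
  exact congrArg Subtype.val h

/-- Two involutions whose product has order four rule out commutative Sylow two-subgroups. -/
theorem no_comm_of_dihedral (P : Sylow 2 G) (hab : IsMulCommutative (P : Subgroup G)) {a b : G}
    (ha : orderOf a = 2) (hb : orderOf b = 2) (hab4 : orderOf (a * b) = 4) : False := by
  set Z := Subgroup.zpowers (a * b)
  have hZ : IsPGroup 2 Z := IsPGroup.of_card (n := 2) (by rw [Nat.card_zpowers, hab4]; rfl)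
  have hA : IsPGroup 2 (Subgroup.zpowers a) :=
    IsPGroup.of_card (n := 1) (by rw [Nat.card_zpowers, ha, pow_one])
  have hinv : a * (a * b) * a⁻¹ = (a * b)⁻¹ := by
    have haa : a * a = 1 := by rw [← pow_two, ← ha, pow_orderOf_eq_one]
    have hbb : b * b = 1 := by rw [← pow_two, ← hb, pow_orderOf_eq_one]
    rw [mul_inv_rev, inv_eq_of_mul_eq_one_right hbb, inv_eq_of_mul_eq_one_right haa, ← mul_assoc a a,
      haa, one_mul]
  have hnorm : Subgroup.zpowers a ≤ Subgroup.normalizer (Z : Set G) := by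
    rw [Subgroup.zpowers_le]
    have hmap : Z.map (MulAut.conj a).toMonoidHom = Z := by
      rw [MonoidHom.map_zpowers]
      show Subgroup.zpowers (a * (a * b) * a⁻¹) = Z
      rw [hinv, Subgroup.zpowers_inv]
    refine Subgroup.mem_normalizer_iff.2 fun x => ⟨fun hx => ?_, fun hx => ?_⟩
    · exact hmap.le ⟨x, hx, rfl⟩
    · obtain ⟨y, hy, e⟩ := hmap.ge hx
      have : y = x := (MulAut.conj a).injective e
      rwa [← this]
  have hH := IsPGroup.to_sup_of_normal_left' hZ hA hnorm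
  have hbm : b ∈ (Z ⊔ Subgroup.zpowers a : Subgroup G) := by
    have := mul_mem (inv_mem (Subgroup.mem_sup_right (S := Z) (Subgroup.mem_zpowers a)))
      (Subgroup.mem_sup_left (T := Subgroup.zpowers a) (Subgroup.mem_zpowers (a * b)))
    rwa [inv_mul_cancel_left] at this
  have hc : a * b = b * a :=
    commute_of_mem_isPGroup P hab hH (Subgroup.mem_sup_right (Subgroup.mem_zpowers a)) hbm
  have h2 : (a * b) ^ 2 = 1 := by
    rw [(show Commute a b from hc).mul_pow, ← ha, pow_orderOf_eq_one, ha, ← hb, pow_orderOf_eq_one,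
      one_mul]
  have := orderOf_dvd_of_pow_eq_one h2
  rw [hab4] at this
  norm_num at this

theorem not_comm_suzuki {K : Type u} [Group K] [Finite K] (h : Lie.IsoSuzuki K) (P : Sylow 2 K) :
    ¬ IsMulCommutative (P : Subgroup K) := by
  intro hab
  obtain ⟨F, i1, i2, m, hm, hF, ⟨e⟩⟩ := h
  let _ := i1
  let _ := i2
  classical
  have := CfsgLib.Lie.Suzuki.charTwo_of_card (m := m) hF
  let f : Cfsg.Sz F m ≃* K := (CfsgLib.Lie.Suzuki.equivLie hm hF).trans e.symm
  obtain ⟨c, hc0, hc1⟩ := CfsgLib.Lie.Suzuki.exists_ne hm hF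
  let U : Subgroup (Cfsg.Sz F m) :=
    Subgroup.closure (Set.range fun x : F × F => CfsgLib.Lie.Suzuki.uS hF x.1 x.2)
  have hU : ∀ g ∈ U, ∃ x : F × F, g = CfsgLib.Lie.Suzuki.uS hF x.1 x.2 := by
    intro g hg
    induction hg using Subgroup.closure_induction with
    | mem g hg => obtain ⟨x, rfl⟩ := hg; exact ⟨x, rfl⟩
    | one => exact ⟨(0, 0), CfsgLib.Lie.Suzuki.uS_one hF |>.symm⟩
    | mul g h _ _ hg hh =>
      obtain ⟨x, rfl⟩ := hg
      obtain ⟨y, rfl⟩ := hh
      exact ⟨(x.1 + y.1, x.2 + y.2 + CfsgLib.Lie.Suzuki.th F m x.1 * y.1),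
        CfsgLib.Lie.Suzuki.uS_mul hF _ _ _ _⟩
    | inv g _ hg =>
      obtain ⟨x, rfl⟩ := hg
      refine ⟨(x.1, x.2 + CfsgLib.Lie.Suzuki.th F m x.1 * x.1), inv_eq_of_mul_eq_one_right ?_⟩
      rw [CfsgLib.Lie.Suzuki.uS_mul, ← CfsgLib.Lie.Suzuki.uS_one hF]
      congr 1 <;> grind [CharTwo.add_self_eq_zero]
  have hp : IsPGroup 2 U := fun g => ⟨2, Subtype.ext (by
    obtain ⟨x, hx⟩ := hU _ g.2
    show (g : Cfsg.Sz F m) ^ (2 ^ 2) = 1
    rw [hx, show (2 : ℕ) ^ 2 = 2 * 2 from rfl, pow_mul, pow_two, pow_two, CfsgLib.Lie.Suzuki.uS_mul,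
      CfsgLib.Lie.Suzuki.uS_mul, ← CfsgLib.Lie.Suzuki.uS_one hF]
    congr 1 <;> simp [CharTwo.add_self_eq_zero])⟩
  have h := commute_of_mem_isPGroup P hab (hp.map f.toMonoidHom)
    ⟨_, Subgroup.subset_closure ⟨((1 : F), (0 : F)), rfl⟩, rfl⟩
    ⟨_, Subgroup.subset_closure ⟨(c, (0 : F)), rfl⟩, rfl⟩
  change f _ * f _ = f _ * f _ at h
  rw [← map_mul, ← map_mul, EmbeddingLike.apply_eq_iff_eq, CfsgLib.Lie.Suzuki.uS_mul,
    CfsgLib.Lie.Suzuki.uS_mul] at h
  have h2 := congrArg (fun g : Cfsg.Sz F m =>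
    ((g : Matrix.SpecialLinearGroup (Fin 4) F) : Matrix (Fin 4) (Fin 4) F) 1 3) h
  simp [CfsgLib.Lie.Suzuki.uS, CfsgLib.Lie.Suzuki.uM] at h2
  -- `θ c = c` puts `c` in the prime field
  have hc : (CfsgLib.Lie.Suzuki.th F m c) = c := h2.symm
  have hcc : c * c = c := by
    have := CfsgLib.Lie.Suzuki.th_tits (m := m) hF c
    rw [hc, hc] at this
    rw [← pow_two]; exact this.symm
  exact hc1 (mul_left_cancel₀ hc0 (by rw [hcc, mul_one]))

theorem not_comm_alt_seven {K : Type u} [Group K] [Finite K]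
    (e : K ≃* alternatingGroup (Fin 7)) (P : Sylow 2 K) : ¬ IsMulCommutative (P : Subgroup K) := by
  intro hab
  let a : alternatingGroup (Fin 7) := ⟨Equiv.swap 0 1 * Equiv.swap 2 3, Equiv.Perm.mem_alternatingGroup.2 (by decide)⟩
  let b : alternatingGroup (Fin 7) := ⟨Equiv.swap 0 2 * Equiv.swap 4 5, Equiv.Perm.mem_alternatingGroup.2 (by decide)⟩
  refine no_comm_of_dihedral P hab (a := e.symm a) (b := e.symm b) ?_ ?_ ?_
  · rw [MulEquiv.orderOf_eq]; exact orderOf_eq_prime (by decide) (by decide)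
  · rw [MulEquiv.orderOf_eq]; exact orderOf_eq_prime (by decide) (by decide)
  · rw [← map_mul, MulEquiv.orderOf_eq]
    exact orderOf_eq_prime_pow (p := 2) (n := 1) (by decide) (by decide)

theorem not_comm_psl_three_four {K : Type u} [Group K] [Finite K] {F : Type} [Field F] [Fintype F]
    (hF : Fintype.card F = 4) (e : K ≃* Matrix.ProjectiveSpecialLinearGroup (Fin 3) F)
    (P : Sylow 2 K) : ¬ IsMulCommutative (P : Subgroup K) := by
  intro hab
  have : CharP F 2 := haveI := Fact.mk Nat.prime_two; charP_of_card_eq_prime_pow (f := 2) hF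
  let π := QuotientGroup.mk' (Subgroup.center SL(3, F))
  have hsq : ∀ u v z : F, u * v = 0 →
      PGroups.Suzuki.LinearThreeFour.el u v z * PGroups.Suzuki.LinearThreeFour.el u v z = 1 := by
    intro u v z huv
    rw [PGroups.Suzuki.LinearThreeFour.el_mul, ← PGroups.Suzuki.LinearThreeFour.el_zero, huv]
    simp [CharTwo.add_self_eq_zero]
  have hne : ∀ u v z : F, u ≠ 0 ∨ v ≠ 0 ∨ z ≠ 0 →
      π (PGroups.Suzuki.LinearThreeFour.el u v z) ≠ 1 := by
    intro u v z h h1
    obtain ⟨r, -, hr⟩ :=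
      Matrix.SpecialLinearGroup.mem_center_iff.mp ((QuotientGroup.eq_one_iff _).1 h1)
    rcases h with h | h | h
    · exact h (by simpa [PGroups.Suzuki.LinearThreeFour.el] using (congrFun (congrFun hr 0) 1).symm)
    · exact h (by simpa [PGroups.Suzuki.LinearThreeFour.el] using (congrFun (congrFun hr 1) 2).symm)
    · exact h (by simpa [PGroups.Suzuki.LinearThreeFour.el] using (congrFun (congrFun hr 0) 2).symm)
  refine no_comm_of_dihedral P hab (a := e.symm (π (PGroups.Suzuki.LinearThreeFour.el 1 0 0)))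
    (b := e.symm (π (PGroups.Suzuki.LinearThreeFour.el 0 1 0))) ?_ ?_ ?_
  · rw [MulEquiv.orderOf_eq]
    exact orderOf_eq_prime (by rw [pow_two, ← map_mul, hsq _ _ _ (by simp), map_one])
      (hne _ _ _ (by simp))
  · rw [MulEquiv.orderOf_eq]
    exact orderOf_eq_prime (by rw [pow_two, ← map_mul, hsq _ _ _ (by simp), map_one])
      (hne _ _ _ (by simp))
  · rw [← map_mul, MulEquiv.orderOf_eq, ← map_mul, PGroups.Suzuki.LinearThreeFour.el_mul]
    refine orderOf_eq_prime_pow (p := 2) (n := 1) ?_ ?_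
    · rw [← map_pow, pow_one, pow_two, PGroups.Suzuki.LinearThreeFour.el_mul]
      exact hne _ _ _ (by simp [CharTwo.add_self_eq_zero])
    · rw [← map_pow, show (2 : ℕ) ^ (1 + 1) = 2 * 2 from rfl, pow_mul, pow_two, pow_two,
        PGroups.Suzuki.LinearThreeFour.el_mul, hsq _ _ _ (by simp [CharTwo.add_self_eq_zero]), map_one]

/-- A commutative Sylow two-subgroup of `PSL₂(q)`, `q` odd, has order at most four. -/
theorem card_le_four {F : Type} [Field F] [Fintype F] (hodd : Fintype.card F % 2 = 1)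
    (S : Sylow 2 (Matrix.ProjectiveSpecialLinearGroup (Fin 2) F))
    (hab : IsMulCommutative (S : Subgroup (Matrix.ProjectiveSpecialLinearGroup (Fin 2) F))) :
    Nat.card S ≤ 4 := by
  by_cases h16 : 16 ∣ Fintype.card F ^ 2 - 1
  · exfalso
    obtain ⟨k, hk, ⟨f⟩⟩ := CfsgLib.Fusion.psl_two_sylow_dihedral_order_ge_eight hodd h16 S
    have h := hab.is_comm.comm (f.symm (DihedralGroup.r 1)) (f.symm (DihedralGroup.sr 0))
    rw [← map_mul, ← map_mul, EmbeddingLike.apply_eq_iff_eq, DihedralGroup.r_mul_sr,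
      DihedralGroup.sr_mul_r, DihedralGroup.sr.injEq, zero_sub, zero_add, neg_eq_iff_add_eq_zero] at h
    have h2 : ((2 : ℕ) : ZMod (2 ^ k)) = 0 := by rw [← one_add_one_eq_two] at *; exact_mod_cast h
    rw [ZMod.natCast_eq_zero_iff] at h2
    have : 2 ^ 2 ≤ 2 ^ k := Nat.pow_le_pow_right two_pos hk
    have := Nat.le_of_dvd two_pos h2
    omega
  · have : Fact (Nat.Prime 2) := ⟨Nat.prime_two⟩
    obtain ⟨k, hk⟩ := IsPGroup.iff_card.1 S.isPGroup'
    rw [hk]
    by_contra hgt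
    have hk3 : 3 ≤ k := by
      by_contra h
      have : 2 ^ k ≤ 2 ^ 2 := Nat.pow_le_pow_right two_pos (by omega)
      omega
    have hdvd : 2 ^ 3 ∣ Nat.card (Matrix.ProjectiveSpecialLinearGroup (Fin 2) F) :=
      (pow_dvd_pow 2 hk3).trans (hk ▸ Subgroup.card_subgroup_dvd_card
        (S : Subgroup (Matrix.ProjectiveSpecialLinearGroup (Fin 2) F)))
    have h2 : 16 ∣ Fintype.card F * (Fintype.card F ^ 2 - 1) := by
      have h := CfsgLib.Classical.card_SL_eq_gcd_mul_card_PSL (F := F) (ι := Fin 2)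
      rw [CfsgLib.Classical.Two.card_SL_two, Fintype.card_fin] at h
      have hg : Nat.gcd 2 (Fintype.card F - 1) = 2 :=
        Nat.gcd_eq_left (Nat.dvd_of_mod_eq_zero (by omega))
      rw [h, hg]
      exact mul_dvd_mul_left 2 hdvd
    exact h16 ((Nat.Coprime.pow_left 4
      (Nat.coprime_two_left.2 (Nat.odd_iff.2 hodd))).dvd_of_dvd_mul_left h2)

end CfsgLib.PrimeInertial
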