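import Cfsg.Agent.Lib.Blocks.PrimeInertial.Structure
import Cfsg.Agent.Lib.Blocks.PrimeInertial.Examples
import Cfsg.Agent.Lib.Blocks.PrimeInertial.EvenCount
import Cfsg.Agent.Lib.Blocks.FreeInertial.Bound
import Cfsg.Agent.Lib.Blocks.FiveChars.Orbits
import Cfsg.Agent.Lib.Blocks.Star.Global
import Cfsg.Agent.Lib.Pairs.Principal
import Cfsg.Agent.Lib.Char.Complete

/-!
# The fixed point free case

With trivial odd core and trivial fixed part the principal block has as many Brauer characters as the
inertial index, and outside the solvable case as many characters as the order of `P`.  The classification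
of simple groups with two-nilpotent centralizers of involutions is taken as a hypothesis.
-/

set_option autoImplicit false

namespace CfsgLib.PrimeInertial

open Cfsg CfsgLib.Blocks CfsgLib.Pairs
open scoped Classical

universe u

/-- The classification of simple groups whose centralizers of involutions have normal two-complements. -/
def Recognition : Prop :=
  ∀ {G : Type u} [Group G] [Finite G] [IsSimpleGroup G],
    ¬ IsMulCommutative G →
    (∀ t : G, orderOf t = 2 → Cfsg.HasNormalPComplement 2 ↥(Subgroup.centralizer ({t} : Set G))) →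
    (∃ (F : Type) (_ : Field F) (_ : Fintype F), 3 < Fintype.card F ∧
        Nonempty (G ≃* Matrix.ProjectiveSpecialLinearGroup (Fin 2) F)) ∨
      Cfsg.Lie.IsoSuzuki G ∨ Nonempty (G ≃* ↥(alternatingGroup (Fin 7))) ∨
      (∃ (F : Type) (_ : Field F) (_ : Fintype F), Fintype.card F = 4 ∧
        Nonempty (G ≃* Matrix.ProjectiveSpecialLinearGroup (Fin 3) F))

section General

variable {G : Type u} [Group G] [Fintype G] {M : Ideal AlgInt} [M.IsPrime] (hM : IsPModular 2 M)
  {P : Sylow 2 G} (hab : IsMulCommutative (P : Subgroup G)) (hfr : IsFreeAction P)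
  (hP1 : (P : Subgroup G) ≠ ⊥)
include hM hab hfr hP1

/-- The counts of the free action. -/
theorem counts :
    Nat.card (principalBlock M G) = blockRank 2 (principalBlock M G) +
        (Nat.card P - 1) / index (P : Subgroup G) ∧
      blockRank 2 (principalBlock M G) ≤ index (P : Subgroup G) ∧
      (index (P : Subgroup G) ≤ 3 → blockRank 2 (principalBlock M G) = index (P : Subgroup G)) ∧
      index (P : Subgroup G) ≤ Nat.card P - 1 := by
  have : Fact (Nat.Prime 2) := ⟨Nat.prime_two⟩
  have hcomm : ∀ x ∈ (P : Subgroup G), ∀ y ∈ (P : Subgroup G), x * y = y * x := fun x hx y hy =>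
    congrArg Subtype.val (hab.is_comm.comm (⟨x, hx⟩ : (P : Subgroup G)) ⟨y, hy⟩)
  have hmax := isMaximalBrauerPair_principal hM P
  have hst : pairStab (P : Subgroup G) (principalBlock M (Subgroup.centralizer ((P : Subgroup G) : Set G))) =
      Subgroup.normalizer ((P : Subgroup G) : Set G) := by
    ext y
    rw [mem_pairStab]
    exact ⟨fun h => h.1, fun h => ⟨h, stabilizesBlock_principal (normalizer_le_normalizer_centralizer _ h)⟩⟩
  have hfree : ∀ g ∈ pairStab (P : Subgroup G)
      (principalBlock M (Subgroup.centralizer ((P : Subgroup G) : Set G))),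
      ∀ x ∈ (P : Subgroup G), x ≠ 1 → g * x * g⁻¹ = x →
      g ∈ Subgroup.centralizer ((P : Subgroup G) : Set G) := by
    intro g hg x hx hx1 hfix
    rw [hst] at hg
    exact hfr g hg x hx hx1 hfix
  have : IsMulCommutative ↥(P : Subgroup G) := hab
  have hf : CfsgLib.FreeInertial.IsFree 2 M (principalBlock M G) (P : Subgroup G) _ :=
    ⟨hM, hmax, hfree, hP1⟩
  have he' : Nat.card (CfsgLib.FreeInertial.inertAut (P : Subgroup G)
      (principalBlock M (Subgroup.centralizer ((P : Subgroup G) : Set G)))) =
      index (P : Subgroup G) := by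
    rw [CfsgLib.FreeInertial.card_inertAut, hst]; rfl
  obtain ⟨h1, h2, h3⟩ := CfsgLib.FreeInertial.counts hf
  rw [he'] at h1 h2 h3
  refine ⟨h1, h2, h3, ?_⟩
  have hlt := CfsgLib.FiveChars.blockRank_lt_card hM hmax hcomm hP1
  by_contra h
  have h0 : (Nat.card P - 1) / index (P : Subgroup G) = 0 := Nat.div_eq_of_lt (not_le.1 h)
  change (Nat.card (P : Subgroup G) - 1) / index (P : Subgroup G) = 0 at h0
  omega

variable (hO : oddCore G = ⊥)
include hO

omit hM [M.IsPrime] in
theorem centralizer_eq_of_normal [hn : (P : Subgroup G).Normal] :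
    Subgroup.centralizer ((P : Subgroup G) : Set G) = (P : Subgroup G) := by
  have : Fact (Nat.Prime 2) := ⟨Nat.prime_two⟩
  obtain ⟨x, hx, hx1⟩ : ∃ x ∈ (P : Subgroup G), x ≠ 1 := by
    by_contra h
    push Not at h
    exact hP1 ((Subgroup.eq_bot_iff_forall _).2 h)
  exact P.3 (isPGroup_of_centralized hab hfr hO hx hx1
    (Subgroup.centralizer_le (Set.singleton_subset_iff.2 hx))) (le_centralizer_self hab)

/-- The normal case: all characters of the quotient by `P` give independent Brauer characters. -/
theorem of_normal [hn : (P : Subgroup G).Normal]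
    (hcomm : ∀ a b : G ⧸ (P : Subgroup G), a * b = b * a) :
    Group.IsSolvable G ∧ blockRank 2 (principalBlock M G) = index (P : Subgroup G) := by
  have : Fact (Nat.Prime 2) := ⟨Nat.prime_two⟩
  have hC := centralizer_eq_of_normal hab hfr hP1 hO
  have hidx : (P : Subgroup G).index = index (P : Subgroup G) := by
    rw [index, hC, Subgroup.normalizer_eq_top, Subgroup.relIndex_top_right]
  have hcard : Nat.card (G ⧸ (P : Subgroup G)) = index (P : Subgroup G) := by
    rw [← hidx]; rfl
  refine ⟨?_, ?_⟩
  · have : Group.IsNilpotent (P : Subgroup G) := P.isPGroup'.isNilpotent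
    have : Group.IsSolvable (G ⧸ (P : Subgroup G)) := Group.isSolvable_of_comm hcomm
    exact (Group.isSolvable_iff_subgroup_quotient (P : Subgroup G)).2 ⟨inferInstance, inferInstance⟩
  refine le_antisymm (counts hM hab hfr hP1).2.1 ?_
  have := Fintype.ofFinite (IrrCharacter (G ⧸ (P : Subgroup G)))
  have hnum : Fintype.card (IrrCharacter (G ⧸ (P : Subgroup G))) = index (P : Subgroup G) := by
    rw [← Nat.card_eq_fintype_card, Char.card_irrCharacter, ← hcard]
    refine (Nat.card_congr (Equiv.ofBijective ConjClasses.mk ⟨fun a b h => ?_, Quotient.mk_surjective⟩)).symm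
    obtain ⟨c, hc⟩ := isConj_iff.1 (ConjClasses.mk_eq_mk_iff_isConj.1 h)
    rw [← hc, hcomm c a, mul_inv_cancel_right]
  let T : (G ⧸ (P : Subgroup G) → ℂ) →ₗ[ℂ] (G → ℂ) :=
    { toFun := fun f g => if 2 ∣ orderOf g then 0 else f (g : G ⧸ (P : Subgroup G))
      map_add' := fun f f' => by funext g; simp only [Pi.add_apply]; split <;> simp
      map_smul' := fun r f => by
        funext g; simp only [Pi.smul_apply, smul_eq_mul, RingHom.id_apply]; split <;> simp }
  have hT : Function.Injective T := by
    intro f f' e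
    funext q
    obtain ⟨g, rfl⟩ := QuotientGroup.mk_surjective q
    obtain ⟨a, s, ⟨k, hk⟩, hs, -, rfl⟩ := Star.exists_decomp (p := 2) g
    have ha : (a : G ⧸ (P : Subgroup G)) = 1 := by
      refine orderOf_eq_one_iff.1 (Nat.eq_one_of_dvd_coprimes ?_ (hk ▸ orderOf_map_dvd
        (QuotientGroup.mk' (P : Subgroup G)) a) (hcard ▸ orderOf_dvd_natCard _))
      exact (Nat.coprime_two_left.2 (odd_index hab)).pow_left k
    have := congrFun e s
    simp only [T, LinearMap.coe_mk, AddHom.coe_mk, if_neg hs] at this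
    simpa [ha] using this
  have hli := (Char.irr_linearIndependent (G := G ⧸ (P : Subgroup G))).map' T
    (LinearMap.ker_eq_bot.2 hT)
  have hspan : ∀ χ : IrrCharacter (G ⧸ (P : Subgroup G)),
      T (χ : G ⧸ (P : Subgroup G) → ℂ) ∈ Submodule.span ℂ
        ((fun ψ : IrrCharacter G => pRegularPart 2 (ψ : G → ℂ)) '' principalBlock M G) := by
    intro χ
    refine Submodule.subset_span ⟨inflate (P : Subgroup G) χ, ?_, funext fun g => ?_⟩
    · exact sameBlock_of_centralizer_le hM P.isPGroup' hC.le (Char.trivChar G) _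
    · by_cases hg : 2 ∣ orderOf g <;> simp [T, pRegularPart, Cfsg.IsPRegular, hg]
  rw [← hnum, blockRank]
  have hli' : LinearIndependent ℂ (fun χ : IrrCharacter (G ⧸ (P : Subgroup G)) =>
      (⟨T (χ : G ⧸ (P : Subgroup G) → ℂ), hspan χ⟩ : Submodule.span ℂ
        ((fun ψ : IrrCharacter G => pRegularPart 2 (ψ : G → ℂ)) '' principalBlock M G))) :=
    LinearIndependent.of_comp (Submodule.subtype _) hli
  exact hli'.fintype_card_le_finrank

/-- Outside the normal case either `P` has order at most four, or a simple normal subgroup contains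
it and has at least as many characters in its principal block as `P` has elements. -/
theorem simple_case (hrec : Recognition.{u}) (hn : ¬ (P : Subgroup G).Normal) :
    Nat.card P ≤ 4 ∨ ∃ T : Subgroup G, T.Normal ∧ (P : Subgroup G) ≤ T ∧
      (∃ n ∈ T, n ∈ Subgroup.normalizer ((P : Subgroup G) : Set G) ∧
        n ∉ Subgroup.centralizer ((P : Subgroup G) : Set G)) ∧
      Nat.card P ≤ Nat.card (principalBlock M T) := by
  have : Fact (Nat.Prime 2) := ⟨Nat.prime_two⟩
  rcases normal_or_simple hab hfr hO with h | ⟨T, hTn, hTs, hTna, hT2⟩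
  · exact absurd h hn
  obtain ⟨hPT, n, hnT, hnN, hnC⟩ := le_simple hab hfr hTna hT2
  have hinv : ∀ t : T, orderOf t = 2 → HasNormalPComplement 2 (Subgroup.centralizer ({t} : Set T)) := by
    intro t ht
    obtain ⟨S, hS⟩ := (IsPGroup.of_card (p := 2) (n := 1)
      (show Nat.card (Subgroup.zpowers (t : G)) = 2 ^ 1 by
        rw [Nat.card_zpowers, Subgroup.orderOf_coe, ht, pow_one])).exists_le_sylow
    obtain ⟨g, hg⟩ := MulAction.exists_smul_eq G S P
    have hx : g * (t : G) * g⁻¹ ∈ (P : Subgroup G) := by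
      rw [← hg]; exact ⟨t, hS (Subgroup.mem_zpowers _), rfl⟩
    have hx1 : g * (t : G) * g⁻¹ ≠ 1 := fun e => by
      rw [conj_eq_one_iff, OneMemClass.coe_eq_one] at e
      simp [e] at ht
    refine CfsgLib.Transfer.hasNormalPComplement_of_injective
      ((((MulAut.conj g).toMonoidHom.comp (T.subtype.comp (Subgroup.centralizer ({t} : Set T)).subtype)).codRestrict
        (Subgroup.centralizer ({g * (t : G) * g⁻¹} : Set G)) fun c => ?_)) ?_
      (hasNormalPComplement_centralizer_of_fix hab hx fun n hn => hfr n hn _ hx hx1)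
    · refine Subgroup.mem_centralizer_singleton_iff.2 ?_
      have e : ((c : T) : G) * t = t * ((c : T) : G) :=
        congrArg Subtype.val (Subgroup.mem_centralizer_singleton_iff.1 c.2)
      show g * ((c : T) : G) * g⁻¹ * (g * t * g⁻¹) = g * t * g⁻¹ * (g * ((c : T) : G) * g⁻¹)
      calc g * ((c : T) : G) * g⁻¹ * (g * t * g⁻¹) = g * (((c : T) : G) * t) * g⁻¹ := by group
        _ = g * ((t : G) * ((c : T) : G)) * g⁻¹ := by rw [e]
        _ = _ := by group
    · intro a b e
      have := congrArg Subtype.val e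
      exact Subtype.ext (Subtype.ext ((MulAut.conj g).injective this))
  let PT : Sylow 2 T := P.subtype hPT
  have hPTab : IsMulCommutative (PT : Subgroup T) := ⟨⟨fun a b => Subtype.ext (Subtype.ext
    (congrArg Subtype.val (hab.is_comm.comm (⟨((a : T) : G), a.2⟩ : (P : Subgroup G))
      ⟨((b : T) : G), b.2⟩) :))⟩⟩
  have hPTcard : Nat.card PT = Nat.card P :=
    Nat.card_congr (Subgroup.subgroupOfEquivOfLe hPT).toEquiv
  rcases hrec hTna hinv with ⟨F, i1, i2, hF, ⟨e⟩⟩ | h | ⟨⟨e⟩⟩ | ⟨F, i1, i2, hF, ⟨e⟩⟩
  rotate_left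
  · exact absurd hPTab (not_comm_suzuki h PT)
  · exact absurd hPTab (not_comm_alt_seven e PT)
  · exact absurd hPTab (not_comm_psl_three_four hF e PT)
  -- the two-dimensional linear groups
  let S : Sylow 2 (Matrix.ProjectiveSpecialLinearGroup (Fin 2) F) := PT.mapSurjective (f := e.toMonoidHom) e.surjective
  have hSab : IsMulCommutative (S : Subgroup (Matrix.ProjectiveSpecialLinearGroup (Fin 2) F)) := by
    refine ⟨⟨fun a b => ?_⟩⟩
    obtain ⟨_, x, hx, rfl⟩ := a
    obtain ⟨_, y, hy, rfl⟩ := b
    refine Subtype.ext ?_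
    show e x * e y = e y * e x
    rw [← map_mul, ← map_mul]
    exact congrArg e (congrArg Subtype.val (hPTab.is_comm.comm ⟨x, hx⟩ ⟨y, hy⟩))
  have hScard : Nat.card S = Nat.card P := by
    rw [← hPTcard]
    exact Subgroup.card_map_of_injective e.injective
  by_cases hodd : Fintype.card F % 2 = 1
  · left
    rw [← hScard]
    exact card_le_four hodd S hSab
  right
  -- even characteristic
  have heven : Even (Fintype.card F) := Nat.not_odd_iff_even.1 fun h => hodd (Nat.odd_iff.1 h)
  have hPq : Nat.card P = Fintype.card F := by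
    rw [← hScard]
    obtain ⟨p, hp⟩ := CharP.exists F
    obtain ⟨d, hpp, hd⟩ := FiniteField.card F p
    obtain rfl : p = 2 := ((Nat.prime_dvd_prime_iff_eq Nat.prime_two hpp).1
      (Nat.prime_two.dvd_of_dvd_pow (hd ▸ heven.two_dvd))).symm
    have hc := CfsgLib.Classical.card_SL_eq_gcd_mul_card_PSL (F := F) (ι := Fin 2)
    have hg : Nat.gcd 2 (Fintype.card F - 1) = 1 :=
      (Nat.Prime.coprime_iff_not_dvd Nat.prime_two).2 fun h => by
        obtain ⟨r, hr⟩ := heven
        omega
    rw [CfsgLib.Classical.Two.card_SL_two, Fintype.card_fin, hg, one_mul] at hc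
    have hodd' : ¬ 2 ∣ Fintype.card F ^ 2 - 1 := by
      obtain ⟨r, hr⟩ := heven
      have h1 : 1 ≤ Fintype.card F ^ 2 := Nat.one_le_pow _ _ Fintype.card_pos
      have h2 : 2 ∣ Fintype.card F ^ 2 := dvd_pow ⟨r, by omega⟩ two_ne_zero
      omega
    rw [S.card_eq_multiplicity, ← hc, hd, Nat.factorization_mul (pow_ne_zero _ two_ne_zero)
      (fun h => hodd' (by rw [hd, h]; exact dvd_zero 2)), Finsupp.add_apply,
      Nat.prime_two.factorization_pow, Finsupp.single_eq_same,
      Nat.factorization_eq_zero_of_not_dvd (by rw [← hd]; exact hodd'), add_zero]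
  refine ⟨T, hTn, hPT, ⟨n, hnT, hnN, hnC⟩, ?_⟩
  rw [hPq]
  exact card_le_card_principalBlock heven e M hM

omit hfr hP1 hO in
/-- Characters of a normal subgroup containing `P` and covering the automizer extend. -/
theorem card_le_of_cover {T : Subgroup G} [hTn : T.Normal] (hPT : (P : Subgroup G) ≤ T)
    (hNC : T ⊔ Subgroup.centralizer ((P : Subgroup G) : Set G) = ⊤) :
    Nat.card (principalBlock M T) ≤ Nat.card (principalBlock M G) := by
  have : Fact (Nat.Prime 2) := ⟨Nat.prime_two⟩
  have hS : CfsgLib.AlperinDade.Setting 2 T (Subgroup.centralizer ((P : Subgroup G) : Set G)) :=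
    ⟨hNC, fun h => P.not_dvd_index (h.trans (Subgroup.index_dvd_of_le hPT)),
      ⟨(P : Subgroup G), hPT, P.not_dvd_index, fun c hc y hy => by
        rw [Subgroup.mem_centralizer_singleton_iff]
        exact Subgroup.mem_centralizer_iff.1 hc y hy⟩⟩
  have h2 := (CfsgLib.AlperinDade.bijection hM hS).2
  choose χ hχ using fun θ : principalBlock M T => (h2 θ.1 θ.2).exists
  refine Nat.card_le_card_of_injective
    (fun θ : principalBlock M T => (⟨χ θ, (hχ θ).1⟩ : principalBlock M G)) fun a b h => ?_
  refine Subtype.ext (Subtype.ext (funext fun x => ?_))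
  rw [← (hχ a).2 x, ← (hχ b).2 x]
  exact congrArg (fun w : principalBlock M G => ((w : IrrCharacter G) : G → ℂ) x) h

omit hM hfr hP1 hO [M.IsPrime] in
/-- The automizer is covered by a subgroup containing one of its elements when its order is prime. -/
theorem cover_of_prime (he : (index (P : Subgroup G)).Prime) {T : Subgroup G} [hTn : T.Normal]
    (hPT : (P : Subgroup G) ≤ T) {n : G} (hnT : n ∈ T)
    (hnN : n ∈ Subgroup.normalizer ((P : Subgroup G) : Set G))
    (hnC : n ∉ Subgroup.centralizer ((P : Subgroup G) : Set G)) :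
    T ⊔ Subgroup.centralizer ((P : Subgroup G) : Set G) = ⊤ := by
  have : Fact (Nat.Prime 2) := ⟨Nat.prime_two⟩
  refine eq_top_iff.2 fun g _ => ?_
  have htop : T ⊔ Subgroup.normalizer ((P : Subgroup G) : Set G) = ⊤ := by
    rw [sup_comm]
    exact Sylow.normalizer_sup_eq_top' (N := T) P hPT
  have hgm : g ∈ T ⊔ Subgroup.normalizer ((P : Subgroup G) : Set G) := htop ▸ Subgroup.mem_top g
  refine (sup_le le_sup_left ?_ : T ⊔ Subgroup.normalizer ((P : Subgroup G) : Set G) ≤
    T ⊔ Subgroup.centralizer ((P : Subgroup G) : Set G)) hgm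
  intro m hm
  obtain ⟨i, hi⟩ := exists_pow he hnN hnC hm
  have := mul_mem (Subgroup.mem_sup_right (S := T) hi)
    (inv_mem (Subgroup.mem_sup_left (T := Subgroup.centralizer ((P : Subgroup G) : Set G))
      (zpow_mem hnT i)))
  rwa [mul_inv_cancel_right] at this

end General

variable {G : Type u} [Group G] [Fintype G] {M : Ideal AlgInt} [M.IsPrime] (hM : IsPModular 2 M)
  {P : Sylow 2 G} (hab : IsMulCommutative (P : Subgroup G)) (he : (index (P : Subgroup G)).Prime)
  (hQ : fixed (P : Subgroup G) = ⊥) (hO : oddCore G = ⊥)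
include hM hab he hQ hO

/-- The statement in the fixed point free case. -/
theorem free_case (hrec : Recognition.{u}) :
    blockRank 2 (principalBlock M G) = index (P : Subgroup G) ∧
      (¬ Group.IsSolvable G → Nat.card (principalBlock M G) = Nat.card P ∧
        Nat.card P = index (P : Subgroup G) + 1) := by
  have : Fact (Nat.Prime 2) := ⟨Nat.prime_two⟩
  have hfr := isFreeAction_of_fixed he hQ
  have hP1 : (P : Subgroup G) ≠ ⊥ := fun h => he.ne_one (by
    rw [index, Subgroup.relIndex_eq_one, h]
    intro g _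
    exact Subgroup.mem_centralizer_iff.2 fun x hx => by
      rw [Subgroup.mem_bot.1 hx, one_mul, mul_one])
  by_cases hn : (P : Subgroup G).Normal
  · have hC := centralizer_eq_of_normal hab hfr hP1 hO
    have hcard : Nat.card (G ⧸ (P : Subgroup G)) = index (P : Subgroup G) := by
      rw [index, hC, Subgroup.normalizer_eq_top, Subgroup.relIndex_top_right]; rfl
    have : Fact (index (P : Subgroup G)).Prime := ⟨he⟩
    have hcyc : IsCyclic (G ⧸ (P : Subgroup G)) := isCyclic_of_prime_card hcard
    obtain ⟨h1, h2⟩ := of_normal hM hab hfr hP1 hO fun a b =>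
      (IsCyclic.commGroup (α := G ⧸ (P : Subgroup G))).mul_comm a b
    exact ⟨h2, fun h => absurd h1 h⟩
  obtain ⟨hk, hl, hl3, hle⟩ := counts hM hab hfr hP1
  have he3 : 3 ≤ index (P : Subgroup G) := by
    obtain ⟨k, hk'⟩ := odd_index (P := P) hab
    have := he.two_le
    omega
  rcases simple_case hM hab hfr hP1 hO hrec hn with h4 | ⟨T, hTn, hPT, ⟨n, hnT, hnN, hnC⟩, hcount⟩
  · have hl' := hl3 (by omega)
    refine ⟨hl', fun _ => ?_⟩
    have hP4 : Nat.card P = 4 := by omega
    rw [hP4] at hk
    have he' : index (P : Subgroup G) = 3 := by omega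
    rw [he'] at hk hl'
    rw [hP4, he', hk, hl']
    exact ⟨rfl, rfl⟩
  have hcount := hcount.trans (card_le_of_cover hM hab hPT (cover_of_prime hab he hPT hnT hnN hnC))
  set m := (Nat.card P - 1) / index (P : Subgroup G) with hm
  have hme : m * index (P : Subgroup G) ≤ Nat.card P - 1 := Nat.div_mul_le_self _ _
  have hm1 : 1 ≤ m := (Nat.one_le_div_iff (by omega)).2 hle
  have hm2 : m = 1 := by
    by_contra h
    have h2m : 2 ≤ m := by omega
    have : m + index (P : Subgroup G) ≤ m * index (P : Subgroup G) := Nat.add_le_mul h2m (by omega)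
    have := Nat.card_pos (α := P)
    omega
  rw [hm2] at hk hme
  exact ⟨by omega, fun _ => by omega⟩

end CfsgLib.PrimeInertial
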