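import Cfsg.Agent.Lib.Blocks.PrimeInertial.Main
import Cfsg.Agent.S3571
import Cfsg.Agent.S4569

/-!
# Abelian Sylow two-subgroups of order eight and sixteen

An involution whose centralizer has a principal block of two-rank one is fixed by no automorphism
induced outside the centralizer of `P`, so its orbit has as many elements as the inertial index.
This leaves prime indices, the index nine and the index fifteen, where the action is free.
-/

set_option autoImplicit false

namespace CfsgLib.PrimeInertial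

open Cfsg CfsgLib.Blocks
open scoped _root_.Classical

universe u

variable {G : Type u} [Group G] [Finite G] {P : Sylow 2 G}

theorem card_range_normalizerMonoidHom :
    Nat.card (Subgroup.normalizerMonoidHom (P : Subgroup G)).range = index (P : Subgroup G) := by
  rw [← Subgroup.index_ker, Subgroup.normalizerMonoidHom_ker]
  rfl

theorem mem_centralizer_iff_map_eq_one
    (n : Subgroup.normalizer ((P : Subgroup G) : Set G)) :
    Subgroup.normalizerMonoidHom (P : Subgroup G) n = 1 ↔
      (n : G) ∈ Subgroup.centralizer ((P : Subgroup G) : Set G) := by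
  rw [← MonoidHom.mem_ker, Subgroup.normalizerMonoidHom_ker, Subgroup.mem_subgroupOf]

variable (hab : IsMulCommutative (P : Subgroup G)) {x : G} (hx : x ∈ (P : Subgroup G))
include hab hx

/-- With a two-nilpotent centralizer, only the centralizer of `P` in the normalizer fixes `x`. -/
theorem fix_of_hasNormalPComplement
    (hH : HasNormalPComplement 2 (Subgroup.centralizer ({x} : Set G))) :
    ∀ n ∈ Subgroup.normalizer ((P : Subgroup G) : Set G), n * x * n⁻¹ = x →
      n ∈ Subgroup.centralizer ((P : Subgroup G) : Set G) := by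
  have : Fact (Nat.Prime 2) := ⟨Nat.prime_two⟩
  intro n hn hfix
  set H := Subgroup.centralizer ({x} : Set G) with hHdef
  have hnH : n ∈ H := Subgroup.mem_centralizer_singleton_iff.2 (mul_inv_eq_iff_eq_mul.1 hfix)
  have hPH : (P : Subgroup G) ≤ H := le_centralizer_singleton hab hx
  set k := (orderOf n).factorization 2
  have hn0 : orderOf n ≠ 0 := (orderOf_pos n).ne'
  have hm : n ^ 2 ^ k ∈ Subgroup.centralizer ((P : Subgroup G) : Set G) := by
    have h1 : (⟨n, hnH⟩ : H) ^ 2 ^ k ∈ Subgroup.centralizer (((P : Subgroup G).subgroupOf H : Subgroup H) : Set H) := by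
      refine CfsgLib.Transfer.mem_centralizer_of_hasNormalPComplement hH
        (P.isPGroup'.comap_subtype) (pow_mem ?_ _) ?_
      · refine Subgroup.mem_normalizer_iff.2 fun y => ?_
        exact Subgroup.mem_normalizer_iff.1 hn (y : G)
      · rw [← Subgroup.orderOf_coe, SubgroupClass.coe_pow,
          orderOf_pow_of_dvd (pow_ne_zero _ two_ne_zero) (Nat.ordProj_dvd _ 2)]
        exact (Nat.coprime_ordCompl Nat.prime_two hn0).symm
    refine Subgroup.mem_centralizer_iff.2 fun y hy => ?_
    exact congrArg Subtype.val (Subgroup.mem_centralizer_iff.1 h1 ⟨y, hPH hy⟩ hy)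
  set f := Subgroup.normalizerMonoidHom (P : Subgroup G)
  have h2 : orderOf (f ⟨n, hn⟩) ∣ 2 ^ k := by
    refine orderOf_dvd_of_pow_eq_one ?_
    rw [← map_pow]
    exact (mem_centralizer_iff_map_eq_one _).2 hm
  have h3 : orderOf (f ⟨n, hn⟩) ∣ index (P : Subgroup G) := by
    rw [← card_range_normalizerMonoidHom]
    exact Subgroup.orderOf_dvd_natCard _ ⟨⟨n, hn⟩, rfl⟩
  refine (mem_centralizer_iff_map_eq_one ⟨n, hn⟩).1 (orderOf_eq_one_iff.1 ?_)
  exact Nat.eq_one_of_dvd_coprimes ((Nat.coprime_two_left.2 (odd_index hab)).pow_left k) h2 h3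

variable (hfix : ∀ n ∈ Subgroup.normalizer ((P : Subgroup G) : Set G), n * x * n⁻¹ = x →
      n ∈ Subgroup.centralizer ((P : Subgroup G) : Set G))
include hfix

/-- The orbit of `x` has as many elements as the inertial index. -/
theorem ncard_orbit :
    {v : (P : Subgroup G) | ∃ m ∈ Subgroup.normalizer ((P : Subgroup G) : Set G),
      m * x * m⁻¹ = (v : G)}.ncard = index (P : Subgroup G) := by
  rw [← card_range_normalizerMonoidHom, ← Nat.card_coe_set_eq]
  set f := Subgroup.normalizerMonoidHom (P : Subgroup G)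
  refine (Nat.card_congr (Equiv.ofBijective (fun σ : f.range =>
    (⟨(σ : MulAut (P : Subgroup G)) ⟨x, hx⟩, ?_⟩ :
      {v : (P : Subgroup G) | ∃ m ∈ Subgroup.normalizer ((P : Subgroup G) : Set G),
        m * x * m⁻¹ = (v : G)})) ⟨?_, ?_⟩)).symm
  · obtain ⟨⟨t, ht⟩, htσ⟩ := σ.2
    exact ⟨t, ht, by rw [← htσ]; rfl⟩
  · rintro ⟨_, ⟨t, ht⟩, rfl⟩ ⟨_, ⟨s, hs⟩, rfl⟩ h
    have h1 : t * x * t⁻¹ = s * x * s⁻¹ :=
      congrArg (fun w => ((w : (P : Subgroup G)) : G)) (congrArg Subtype.val h)
    refine Subtype.ext (MulEquiv.ext fun w => Subtype.ext ?_)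
    show t * (w : G) * t⁻¹ = s * (w : G) * s⁻¹
    have hC : s⁻¹ * t ∈ Subgroup.centralizer ((P : Subgroup G) : Set G) := by
      refine hfix _ (mul_mem (inv_mem hs) ht) ?_
      calc (s⁻¹ * t) * x * (s⁻¹ * t)⁻¹ = s⁻¹ * (t * x * t⁻¹) * s := by group
        _ = s⁻¹ * (s * x * s⁻¹) * s := by rw [h1]
        _ = x := by group
    have h2 := Subgroup.mem_centralizer_iff.1 hC w w.2
    calc t * (w : G) * t⁻¹ = s * ((s⁻¹ * t) * w) * t⁻¹ := by group
      _ = s * (w * (s⁻¹ * t)) * t⁻¹ := by rw [← h2]
      _ = s * w * s⁻¹ := by group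
  · rintro ⟨w, t, ht, htw⟩
    exact ⟨⟨_, ⟨t, ht⟩, rfl⟩, Subtype.ext (Subtype.ext htw)⟩

omit hfix in
theorem orbit_subset (hx2 : orderOf x = 2) :
    {v : (P : Subgroup G) | ∃ m ∈ Subgroup.normalizer ((P : Subgroup G) : Set G),
      m * x * m⁻¹ = (v : G)} ⊆ {v : (P : Subgroup G) | v ≠ 1 ∧ v ^ 2 = 1} := by
  rintro v ⟨m, -, hm⟩
  have h : orderOf v = 2 := by
    rw [← Subgroup.orderOf_coe, ← hm, ← hx2]
    exact MulEquiv.orderOf_eq (MulAut.conj m) x
  exact ⟨fun e => by simp [e] at h, orderOf_dvd_iff_pow_eq_one.1 (dvd_of_eq h)⟩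

theorem index_le (hx2 : orderOf x = 2) :
    index (P : Subgroup G) ≤ {v : (P : Subgroup G) | v ≠ 1 ∧ v ^ 2 = 1}.ncard :=
  ncard_orbit hab hx hfix ▸ Set.ncard_le_ncard (orbit_subset hab hx hx2) (Set.toFinite _)

theorem index_le_card (hx2 : orderOf x = 2) :
    index (P : Subgroup G) ≤ Nat.card P - 1 := by
  refine (index_le hab hx hfix hx2).trans ?_
  have h := Set.ncard_le_ncard (show {v : (P : Subgroup G) | v ≠ 1 ∧ v ^ 2 = 1} ⊆
    ({1}ᶜ : Set (P : Subgroup G)) from fun v hv => hv.1) (Set.toFinite _)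
  rwa [Set.ncard_compl, Set.ncard_singleton] at h

/-- More than half of the elements being involutions makes `P` elementary. -/
theorem pow_two_eq_one_of_index (hx2 : orderOf x = 2) (hP : Nat.card P = 16)
    (he : 9 ≤ index (P : Subgroup G)) : ∀ v : P, v ^ 2 = 1 := by
  let S : Subgroup (P : Subgroup G) :=
    { carrier := {v | v ^ 2 = 1}
      one_mem' := one_pow 2
      mul_mem' := fun {a b} ha hb => by
        simp only [Set.mem_ofPred_eq] at ha hb ⊢
        rw [(show Commute a b from hab.is_comm.comm a b).mul_pow, ha, hb, mul_one]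
      inv_mem' := fun {a} ha => by
        simp only [Set.mem_ofPred_eq] at ha ⊢
        rw [inv_pow, ha, inv_one] }
  have hins : insert 1 {v : (P : Subgroup G) | v ≠ 1 ∧ v ^ 2 = 1} ⊆ (S : Set (P : Subgroup G)) := by
    rintro v (rfl | hv)
    · exact S.one_mem
    · exact hv.2
  have h1 : 10 ≤ Nat.card S := by
    have h := Set.ncard_le_ncard hins (Set.toFinite _)
    rw [Set.ncard_insert_of_notMem (fun h => h.1 rfl) (Set.toFinite _)] at h
    have := index_le hab hx hfix hx2
    exact le_trans (by omega) (h.trans (Nat.card_coe_set_eq (S : Set (P : Subgroup G))).ge)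
  have h2 : Nat.card S ∣ 16 := hP ▸ S.card_subgroup_dvd_card
  have h3 : Nat.card S = 16 := by
    have := Nat.le_of_dvd (by norm_num) h2
    generalize Nat.card S = s at *
    interval_cases s <;> revert h2 <;> decide
  intro v
  have : v ∈ S := Subgroup.eq_top_of_card_eq S (h3.trans hP.symm) ▸ Subgroup.mem_top _
  exact this

/-- A transitive action is free. -/
theorem isFreeAction_of_index (hx2 : orderOf x = 2)
    (he : Nat.card P ≤ index (P : Subgroup G) + 1) : IsFreeAction P := by
  have hO : {v : (P : Subgroup G) | ∃ m ∈ Subgroup.normalizer ((P : Subgroup G) : Set G),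
      m * x * m⁻¹ = (v : G)} = ({1}ᶜ : Set (P : Subgroup G)) := by
    refine Set.eq_of_subset_of_ncard_le (fun v hv => (orbit_subset hab hx hx2 hv).1) ?_ (Set.toFinite _)
    rw [ncard_orbit hab hx hfix, Set.ncard_compl, Set.ncard_singleton]
    exact Nat.sub_le_iff_le_add.2 he
  intro n hn y hy hy1 h
  obtain ⟨m, hm, hmy⟩ := hO.ge (show (⟨y, hy⟩ : (P : Subgroup G)) ∈ ({1}ᶜ : Set _) from
    fun e => hy1 (congrArg Subtype.val e))
  have hC : m⁻¹ * n * m ∈ Subgroup.centralizer ((P : Subgroup G) : Set G) := by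
    refine hfix _ (mul_mem (mul_mem (inv_mem hm) hn) hm) ?_
    change m * x * m⁻¹ = y at hmy
    calc m⁻¹ * n * m * x * (m⁻¹ * n * m)⁻¹ = m⁻¹ * (n * (m * x * m⁻¹) * n⁻¹) * m := by group
      _ = m⁻¹ * (n * y * n⁻¹) * m := by rw [hmy]
      _ = m⁻¹ * (m * x * m⁻¹) * m := by rw [h, hmy]
      _ = x := by group
  refine Subgroup.mem_centralizer_iff.2 fun z hz => ?_
  have hz' : m⁻¹ * z * m ∈ (P : Subgroup G) := by
    simpa using (Subgroup.mem_normalizer_iff.1 (inv_mem hm) z).1 hz
  have h2 := Subgroup.mem_centralizer_iff.1 hC _ hz'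
  calc z * n = m * ((m⁻¹ * z * m) * (m⁻¹ * n * m)) * m⁻¹ := by group
    _ = m * ((m⁻¹ * n * m) * (m⁻¹ * z * m)) * m⁻¹ := by rw [h2]
    _ = n * z := by group

omit hab hx hfix

section Free

variable {H : Type u} [Group H] [Fintype H] {M : Ideal AlgInt} [M.IsPrime] (hM : IsPModular 2 M)
  {R : Sylow 2 H} (hRab : IsMulCommutative (R : Subgroup H)) (hfr : IsFreeAction R)
  (hR : Nat.card R = 16) (he : index (R : Subgroup H) = 15)
include hM hRab hfr hR he

/-- The index fifteen with trivial odd core. -/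
theorem card_eq_sixteen_of_oddCore (hO : oddCore H = ⊥) (hrec : Recognition.{u}) :
    Nat.card (principalBlock M H) = 16 := by
  have : Fact (Nat.Prime 2) := ⟨Nat.prime_two⟩
  have hR1 : (R : Subgroup H) ≠ ⊥ := fun h => by
    have : Nat.card (R : Subgroup H) = 16 := hR
    rw [h, Subgroup.card_bot] at this
    omega
  obtain ⟨hk, hl, -, -⟩ := counts hM hRab hfr hR1
  rw [hR, he] at hk
  rw [he] at hl
  by_cases hn : (R : Subgroup H).Normal
  · have hC := centralizer_eq_of_normal hRab hfr hR1 hO
    have hcard : Nat.card (H ⧸ (R : Subgroup H)) = 15 := by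
      rw [← he, index, hC, Subgroup.normalizer_eq_top, Subgroup.relIndex_top_right]; rfl
    obtain ⟨z, hz⟩ := Cfsg.Agent.S3571.exists_order_fifteen (A := H ⧸ (R : Subgroup H)) (Or.inl hcard)
    have : IsCyclic (H ⧸ (R : Subgroup H)) := isCyclic_of_orderOf_eq_card z (hz.trans hcard.symm)
    obtain ⟨-, h2⟩ := of_normal hM hRab hfr hR1 hO fun a b =>
      (IsCyclic.commGroup (α := H ⧸ (R : Subgroup H))).mul_comm a b
    rw [he] at h2
    omega
  rcases simple_case hM hRab hfr hR1 hO hrec hn with h4 | ⟨T, hTn, hRT, ⟨n, hnT, hnN, hnC⟩, hcount⟩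
  · omega
  set N := Subgroup.normalizer ((R : Subgroup H) : Set H) with hN
  set C := Subgroup.centralizer ((R : Subgroup H) : Set H) with hC
  let RT : Sylow 2 T := R.subtype hRT
  have hRTcard : Nat.card RT = 16 :=
    (Nat.card_congr (Subgroup.subgroupOfEquivOfLe hRT).toEquiv).trans hR
  have hRTab : IsMulCommutative (RT : Subgroup T) := ⟨⟨fun a b => Subtype.ext (Subtype.ext
    (congrArg Subtype.val (hRab.is_comm.comm (⟨((a : T) : H), a.2⟩ : (R : Subgroup H))
      ⟨((b : T) : H), b.2⟩) :))⟩⟩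
  have hNT : Subgroup.normalizer ((RT : Subgroup T) : Set T) = N.subgroupOf T :=
    (Subgroup.subgroupOf_normalizer_eq hRT).symm
  have hCT : Subgroup.centralizer ((RT : Subgroup T) : Set T) = C.subgroupOf T := by
    ext c
    constructor
    · exact fun h => Subgroup.mem_centralizer_iff.2 fun y hy =>
        congrArg Subtype.val (Subgroup.mem_centralizer_iff.1 h ⟨y, hRT hy⟩ hy)
    · exact fun h => Subgroup.mem_centralizer_iff.2 fun y hy =>
        Subtype.ext (Subgroup.mem_centralizer_iff.1 h (y : H) hy)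
  have hfrT : IsFreeAction RT := fun m hm y hy hy1 h => by
    rw [hNT] at hm
    rw [hCT]
    exact hfr (m : H) hm (y : H) hy (fun e => hy1 (Subtype.ext e)) (congrArg Subtype.val h)
  have hRT1 : (RT : Subgroup T) ≠ ⊥ := fun h => by
    have : Nat.card (RT : Subgroup T) = 16 := hRTcard
    rw [h, Subgroup.card_bot] at this
    omega
  have heT : index (RT : Subgroup T) = C.relIndex (N ⊓ T) := by
    rw [index, hNT, hCT, ← Subgroup.inf_subgroupOf_right N T, Subgroup.relIndex_subgroupOf inf_le_right]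
  have hCN : C ≤ N := centralizer_le_normalizer _
  have hCnormal : (C.subgroupOf N).Normal := by
    rw [← Subgroup.normalizerMonoidHom_ker]; infer_instance
  have hdvd : index (RT : Subgroup T) ∣ 15 := by
    rw [heT, ← he, ← Subgroup.relIndex_subgroupOf (inf_le_left : N ⊓ T ≤ N)]
    exact Subgroup.relIndex_dvd_index_of_normal (C.subgroupOf N) _
  have := Fintype.ofFinite T
  obtain ⟨hkT, hlT, -, -⟩ := counts hM hRTab hfrT hRT1
  rw [hRTcard] at hkT
  rw [hR] at hcount
  have hne : index (RT : Subgroup T) ≠ 1 := fun h => by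
    rw [heT, Subgroup.relIndex_eq_one] at h
    exact hnC (h ⟨hnN, hnT⟩)
  have heT15 : index (RT : Subgroup T) = 15 := by
    have := Nat.le_of_dvd (by norm_num) hdvd
    generalize index (RT : Subgroup T) = t at *
    interval_cases t <;> omega
  have hcov : T ⊔ C = ⊤ := by
    have hsup : (N ⊓ T).subgroupOf N ⊔ C.subgroupOf N = ⊤ := by
      have h1 := Subgroup.relIndex_mul_index
        (le_sup_right : C.subgroupOf N ≤ (N ⊓ T).subgroupOf N ⊔ C.subgroupOf N)
      rw [Subgroup.relIndex_sup_right, Subgroup.relIndex_subgroupOf (inf_le_left : N ⊓ T ≤ N), ← heT, heT15,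
        show (C.subgroupOf N).index = 15 from he] at h1
      exact Subgroup.index_eq_one.1 (by omega)
    refine eq_top_iff.2 fun g _ => ?_
    have htop : T ⊔ N = ⊤ := by
      rw [sup_comm]
      exact Sylow.normalizer_sup_eq_top' (N := T) R hRT
    refine (sup_le le_sup_left ?_ : T ⊔ N ≤ T ⊔ C) (htop ▸ Subgroup.mem_top g)
    have h2 := congrArg (Subgroup.map N.subtype) hsup
    rw [Subgroup.map_sup, Subgroup.map_subgroupOf_eq_of_le inf_le_left,
      Subgroup.map_subgroupOf_eq_of_le hCN, ← MonoidHom.range_eq_map, Subgroup.range_subtype] at h2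
    exact h2.ge.trans (sup_le_sup_right inf_le_right _)
  have := hcount.trans (card_le_of_cover hM hRab hRT hcov)
  omega

/-- The index fifteen. -/
theorem card_eq_sixteen (hrec : Recognition.{u}) : Nat.card (principalBlock M H) = 16 := by
  have : Fact (Nat.Prime 2) := ⟨Nat.prime_two⟩
  set N := oddCore H
  have : N.Normal := by show (pPrimeCore 2 H).Normal; infer_instance
  have := Fintype.ofFinite (H ⧸ N)
  have hodd : Odd (Nat.card N) := CfsgLib.ZStar.odd_card_oddCore H
  have hRN : (R : Subgroup H) ⊓ N = ⊥ := by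
    obtain ⟨k, hk⟩ := IsPGroup.iff_card.1 R.isPGroup'
    exact (Subgroup.disjoint_of_coprime_natCard
      (hk ▸ (Nat.coprime_two_left.2 hodd).pow_left k)).eq_bot
  have hrigid : ∀ n ∈ Subgroup.normalizer ((R : Subgroup H) : Set H), ∀ y ∈ (R : Subgroup H),
      y⁻¹ * (n * y * n⁻¹) ∈ N → n * y * n⁻¹ = y := fun n hn y hy h => by
    have h1 : y⁻¹ * (n * y * n⁻¹) ∈ (R : Subgroup H) ⊓ N :=
      Subgroup.mem_inf.2 ⟨mul_mem (inv_mem hy) ((Subgroup.mem_normalizer_iff.1 hn y).1 hy), h⟩
    rw [hRN, Subgroup.mem_bot, inv_mul_eq_one] at h1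
    exact h1.symm
  have hidx : index ((image N R : Sylow 2 (H ⧸ N)) : Subgroup (H ⧸ N)) = index (R : Subgroup H) :=
    index_image N hrigid
  have hcard : Nat.card (image N R : Sylow 2 (H ⧸ N)) = 16 := by
    have h1 := Subgroup.relIndex_ker (f := QuotientGroup.mk' N) (K := (R : Subgroup H))
    rw [QuotientGroup.ker_mk', ← Subgroup.inf_relIndex_right, inf_comm, hRN,
      Subgroup.relIndex_bot_left] at h1
    exact (congrArg (fun K : Subgroup (H ⧸ N) => Nat.card K) (coe_image N)).trans (h1.symm.trans hR)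
  have hfr' : IsFreeAction (image N R) := by
    intro q hq y hy hy1 h
    rw [normalizer_image] at hq
    obtain ⟨n, hn, rfl⟩ := hq
    rw [coe_image] at hy
    obtain ⟨z, hz, rfl⟩ := hy
    have hz1 : z ≠ 1 := fun e => hy1 (by rw [e, map_one])
    have hm : z⁻¹ * (n * z * n⁻¹) ∈ N := by
      rw [← QuotientGroup.eq_one_iff]
      show QuotientGroup.mk' N (z⁻¹ * (n * z * n⁻¹)) = 1
      rw [map_mul, map_mul, map_mul, map_inv, map_inv, h, inv_mul_cancel]
    have hnC := hfr n hn z hz hz1 (hrigid n hn z hz hm)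
    refine Subgroup.mem_centralizer_iff.2 fun w hw => ?_
    rw [coe_image] at hw
    obtain ⟨v, hv, rfl⟩ := hw
    rw [← map_mul, ← map_mul, Subgroup.mem_centralizer_iff.1 hnC v hv]
  rw [(principal_quotient hM N hodd).1]
  exact card_eq_sixteen_of_oddCore hM (isMulCommutative_image N hRab) hfr' hcard (hidx.trans he)
    (CfsgLib.Core.pPrimeCore_quotient_pPrimeCore 2 H) hrec

end Free

/-- An involution conjugate into `P` with the same rank. -/
theorem exists_involution [Fintype G] (M : Ideal AlgInt) [M.IsPrime] (hM : IsPModular 2 M) (x : G)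
    (hx : orderOf x = 2)
    (hl : blockRank 2 (principalBlock M (Subgroup.centralizer ({x} : Set G))) = 1) :
    ∃ y ∈ (P : Subgroup G), orderOf y = 2 ∧
      HasNormalPComplement 2 (Subgroup.centralizer ({y} : Set G)) := by
  have : Fact (Nat.Prime 2) := ⟨Nat.prime_two⟩
  obtain ⟨S, hS⟩ := (IsPGroup.of_card (p := 2) (n := 1)
    (show Nat.card (Subgroup.zpowers x) = 2 ^ 1 by rw [Nat.card_zpowers, hx, pow_one])).exists_le_sylow
  obtain ⟨g, hg⟩ := MulAction.exists_smul_eq G S P
  refine ⟨g * x * g⁻¹, by rw [← hg]; exact ⟨x, hS (Subgroup.mem_zpowers _), rfl⟩,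
    (MulEquiv.orderOf_eq (MulAut.conj g) x).trans hx, ?_⟩
  have := Fintype.ofFinite (Subgroup.centralizer ({x} : Set G))
  have h := (CharAction.blockRank_principal_eq_one_iff hM).1 hl
  refine CfsgLib.Transfer.hasNormalPComplement_of_injective
    ((((MulAut.conj g⁻¹).toMonoidHom.comp (Subgroup.centralizer ({g * x * g⁻¹} : Set G)).subtype).codRestrict
      (Subgroup.centralizer ({x} : Set G)) fun c => ?_)) ?_ h
  · refine Subgroup.mem_centralizer_singleton_iff.2 ?_
    have e : (c : G) * (g * x * g⁻¹) = g * x * g⁻¹ * (c : G) :=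
      Subgroup.mem_centralizer_singleton_iff.1 c.2
    show g⁻¹ * (c : G) * g⁻¹⁻¹ * x = x * (g⁻¹ * (c : G) * g⁻¹⁻¹)
    calc g⁻¹ * (c : G) * g⁻¹⁻¹ * x = g⁻¹ * ((c : G) * (g * x * g⁻¹)) * g := by group
      _ = g⁻¹ * (g * x * g⁻¹ * (c : G)) * g := by rw [e]
      _ = _ := by group
  · intro a b e
    exact Subtype.ext ((MulAut.conj g⁻¹).injective (congrArg Subtype.val e))

theorem arith_eight {e q k : ℕ} (he : e.Prime) (he2 : e ≠ 2) (hle : e ≤ 7) (hq : q ∣ 8) (hq8 : q ≠ 8)
    (h : k * e + q = q * e ^ 2 + 8) : k = 8 := by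
  have hq' := Nat.le_of_dvd (by norm_num) hq
  interval_cases e <;> (try (norm_num at he; done)) <;> interval_cases q <;> omega

theorem arith_sixteen {e q k : ℕ} (he : e.Prime) (he2 : e ≠ 2) (hle : e ≤ 15) (hq : q ∣ 16) (hq16 : q ≠ 16)
    (h : k * e + q = q * e ^ 2 + 16) : k = 8 ∨ k = 16 := by
  have hq' := Nat.le_of_dvd (by norm_num) hq
  interval_cases e <;> (try (norm_num at he; done)) <;>
    interval_cases q <;> omega

/-- The general statement. -/
theorem involution_rank_one {G : Type u} [Group G] [Finite G] (hrec : Recognition.{u}) (M : Ideal AlgInt)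
    (hM : IsPModular 2 M) (P : Sylow 2 G) (hab : IsMulCommutative P) (x : G) (hx : orderOf x = 2)
    (hl : blockRank 2 (principalBlock M (Subgroup.centralizer ({x} : Set G))) = 1) :
    (Nat.card P = 8 → Nat.card (principalBlock M G) = 8) ∧
      (Nat.card P = 16 → Nat.card (principalBlock M G) = 8 ∨ Nat.card (principalBlock M G) = 16) := by
  have := Fintype.ofFinite G
  have := hM.2.1.isPrime
  have : Fact (Nat.Prime 2) := ⟨Nat.prime_two⟩
  obtain ⟨y, hy, hy2, hH⟩ := exists_involution (P := P) M hM x hx hl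
  have hfix := fix_of_hasNormalPComplement hab hy hH
  have hle := index_le_card hab hy hfix hy2
  obtain ⟨j, hj⟩ := odd_index (P := P) hab
  have h1 : index (P : Subgroup G) = 1 → Nat.card (principalBlock M G) = Nat.card P := fun h1 => by
    have hNC : Subgroup.normalizer ((P : Subgroup G) : Set G) ≤
        Subgroup.centralizer ((P : Subgroup G) : Set G) := Subgroup.relIndex_eq_one.1 h1
    have hP1 : (P : Subgroup G) ≠ ⊥ := fun h => by
      rw [h, Subgroup.mem_bot] at hy
      simp [hy] at hy2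
    obtain ⟨hk, -, hl3, -⟩ := counts hM hab (fun n hn _ _ _ _ => hNC hn) hP1
    rw [hl3 (by omega), h1, Nat.div_one] at hk
    have := Nat.card_pos (α := P)
    omega
  have hQ : Nat.card (fixed (P : Subgroup G)) ∣ Nat.card P := Subgroup.card_dvd_of_le inf_le_left
  have hQne : index (P : Subgroup G) ≠ 1 → Nat.card (fixed (P : Subgroup G)) ≠ Nat.card P := by
    intro h1 h
    have h2 : fixed (P : Subgroup G) = (P : Subgroup G) :=
      Subgroup.eq_of_le_of_card_ge inf_le_left h.ge
    refine h1 (Subgroup.relIndex_eq_one.2 fun n hn => Subgroup.mem_centralizer_iff.2 fun z hz => ?_)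
    rw [← h2] at hz
    exact (mul_inv_eq_iff_eq_mul.1 ((mem_fixed.1 hz).2 n hn)).symm
  have hform : (index (P : Subgroup G)).Prime →
      Nat.card (principalBlock M G) * index (P : Subgroup G) + Nat.card (fixed (P : Subgroup G)) =
        Nat.card (fixed (P : Subgroup G)) * index (P : Subgroup G) ^ 2 + Nat.card P := fun he =>
    card_formula hM hab he (main hrec M hM P hab he).1
  constructor <;> intro hP
  · rw [hP] at hle hQ hQne hform h1
    by_cases he1 : index (P : Subgroup G) = 1
    · exact h1 he1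
    have hcase : index (P : Subgroup G) = 3 ∨ index (P : Subgroup G) = 5 ∨
        index (P : Subgroup G) = 7 := by omega
    have hep : (index (P : Subgroup G)).Prime := by
      rcases hcase with h | h | h <;> rw [h] <;> norm_num
    exact arith_eight hep (by omega) (by omega) hQ (hQne he1) (hform hep)
  · rw [hP] at hle hQ hQne hform h1
    by_cases he1 : index (P : Subgroup G) = 1
    · exact Or.inr (h1 he1)
    by_cases he9 : index (P : Subgroup G) = 9
    · exact Or.inr (Cfsg.Agent.S4569.result M hM P hP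
        (pow_two_eq_one_of_index hab hy hfix hy2 hP (by omega)) he9).1
    by_cases he15 : index (P : Subgroup G) = 15
    · exact Or.inr (card_eq_sixteen hM hab
        (isFreeAction_of_index hab hy hfix hy2 (by omega)) hP he15 hrec)
    have hcase : index (P : Subgroup G) = 3 ∨ index (P : Subgroup G) = 5 ∨
        index (P : Subgroup G) = 7 ∨ index (P : Subgroup G) = 11 ∨ index (P : Subgroup G) = 13 := by
      omega
    have hep : (index (P : Subgroup G)).Prime := by
      rcases hcase with h | h | h | h | h <;> rw [h] <;> norm_num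
    exact arith_sixteen hep (by omega) (by omega) hQ (hQne he1) (hform hep)

end CfsgLib.PrimeInertial
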