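import Cfsg.Agent.Lib.Blocks.PrimeInertial.Quotient
import Cfsg.Agent.Lib.Blocks.PrimeInertial.FreeCase
import Cfsg.Agent.Lib.Blocks.DefectBound.Quotient
import Cfsg.Agent.Lib.Blocks.PrincipalGalois
import Cfsg.Agent.Lib.CharAction.Rank
import Cfsg.Agent.S0205

/-!
# Principal two-blocks with abelian Sylow group and prime inertial index

The general case reduces to the fixed point free one modulo the odd core and the fixed part.
-/

set_option autoImplicit false

namespace CfsgLib.PrimeInertial

open Cfsg CfsgLib.Blocks CfsgLib.Pairs CfsgLib.Watanabe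
open scoped Classical

universe u

variable {G : Type u} [Group G] [Fintype G] {M : Ideal AlgInt} [M.IsPrime] (hM : IsPModular 2 M)
  {P : Sylow 2 G}

include hM in
/-- The principal block does not see a normal subgroup of odd order. -/
theorem principal_quotient (N : Subgroup G) [N.Normal] [Fintype (G ⧸ N)] (hN : Odd (Nat.card N)) :
    Nat.card (principalBlock M G) = Nat.card (principalBlock M (G ⧸ N)) ∧
      blockRank 2 (principalBlock M G) = blockRank 2 (principalBlock M (G ⧸ N)) := by
  have : Fact (Nat.Prime 2) := ⟨Nat.prime_two⟩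
  have hN' : ¬ 2 ∣ Nat.card N := fun h => Nat.not_even_iff_odd.2 hN (even_iff_two_dvd.2 h)
  have himg : principalBlock M G = inflate N '' principalBlock M (G ⧸ N) := by
    ext χ
    constructor
    · intro hχ
      obtain ⟨ψ, rfl⟩ := exists_inflate_eq N χ (apply_eq_of_mem_principalBlock N hM hN' hχ)
      exact ⟨ψ, (mem_principalBlock_inflate_iff hM N hN' ψ).1 hχ, rfl⟩
    · rintro ⟨ψ, hψ, rfl⟩
      exact (mem_principalBlock_inflate_iff hM N hN' ψ).2 hψ
  refine ⟨by rw [himg]; exact Nat.card_image_of_injective (inflate_injective N) _, ?_⟩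
  let T : (G ⧸ N → ℂ) →ₗ[ℂ] (G → ℂ) := LinearMap.funLeft ℂ ℂ (QuotientGroup.mk : G → G ⧸ N)
  let cut : (G → ℂ) →ₗ[ℂ] (G → ℂ) :=
    { toFun := fun f g => if 2 ∣ orderOf g then 0 else f g
      map_add' := fun f f' => by funext g; simp only [Pi.add_apply]; split <;> simp
      map_smul' := fun r f => by
        funext g; simp only [Pi.smul_apply, smul_eq_mul, RingHom.id_apply]; split <;> simp }
  set S := Submodule.span ℂ ((fun χ : IrrCharacter (G ⧸ N) => pRegularPart 2 (χ : G ⧸ N → ℂ)) ''
    principalBlock M (G ⧸ N)) with hSdef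
  have hmap : S.map (cut ∘ₗ T) =
      Submodule.span ℂ ((fun χ : IrrCharacter G => pRegularPart 2 (χ : G → ℂ)) '' principalBlock M G) := by
    rw [hSdef, Submodule.map_span, himg, Set.image_image, Set.image_image]
    congr 1
    refine Set.image_congr fun χ _ => funext fun g => ?_
    by_cases hg : 2 ∣ orderOf g
    · simp [cut, T, pRegularPart, Cfsg.IsPRegular, hg]
    · have : ¬ 2 ∣ orderOf (g : G ⧸ N) := fun h =>
        hg (h.trans (orderOf_map_dvd (QuotientGroup.mk' N) g))
      simp [cut, T, pRegularPart, Cfsg.IsPRegular, hg, this, LinearMap.funLeft_apply]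
  have hsupp : ∀ f ∈ S, ∀ q : G ⧸ N, 2 ∣ orderOf q → f q = 0 := by
    intro f hf q hq
    induction hf using Submodule.span_induction with
    | mem f hf => obtain ⟨ξ, -, rfl⟩ := hf; simp [pRegularPart, Cfsg.IsPRegular, hq]
    | zero => rfl
    | add a c _ _ ha hc => simp [ha, hc]
    | smul r a _ ha => simp [ha]
  have hinj : Set.InjOn (cut ∘ₗ T) S := by
    intro f hf f' hf' e
    funext q
    by_cases hq : 2 ∣ orderOf q
    · rw [hsupp f hf q hq, hsupp f' hf' q hq]
    obtain ⟨g, rfl⟩ := QuotientGroup.mk_surjective q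
    obtain ⟨a, s, ⟨k, hk⟩, hs, hc, rfl⟩ := Star.exists_decomp (p := 2) g
    have ha : (a : G ⧸ N) = 1 := by
      by_contra hne
      have hdvd : orderOf (a : G ⧸ N) ∣ 2 ^ k := hk ▸ orderOf_map_dvd (QuotientGroup.mk' N) a
      obtain ⟨i, -, hi⟩ := (Nat.dvd_prime_pow Nat.prime_two).1 hdvd
      have hcop : (orderOf (a : G ⧸ N)).Coprime (orderOf (s : G ⧸ N)) := by
        rw [hi]
        exact ((Nat.Prime.coprime_iff_not_dvd Nat.prime_two).2 fun h =>
          hs (h.trans (orderOf_map_dvd (QuotientGroup.mk' N) s))).pow_left i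
      refine hq ?_
      have hc' : Commute (a : G ⧸ N) (s : G ⧸ N) := hc.map (QuotientGroup.mk' N)
      rw [QuotientGroup.mk_mul, hc'.orderOf_mul_eq_mul_orderOf_of_coprime hcop, hi]
      rcases Nat.eq_zero_or_pos i with rfl | hi0
      · exact absurd (orderOf_eq_one_iff.1 (hi.trans (pow_zero 2))) hne
      · exact dvd_mul_of_dvd_left (dvd_pow_self 2 hi0.ne') _
    have := congrFun e s
    simp only [cut, T, LinearMap.coe_comp, Function.comp_apply, LinearMap.coe_mk, AddHom.coe_mk,
      if_neg hs, LinearMap.funLeft_apply] at this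
    simpa [ha] using this
  show Module.finrank ℂ _ = Module.finrank ℂ S
  rw [← hmap]
  exact (LinearEquiv.ofBijective (((cut ∘ₗ T).comp S.subtype).codRestrict (S.map (cut ∘ₗ T))
    (fun x => Submodule.mem_map_of_mem x.2))
    ⟨fun x y h => Subtype.ext (hinj x.2 y.2 (congrArg Subtype.val h)),
      fun ⟨_, f, hf, e⟩ => ⟨⟨f, hf⟩, Subtype.ext e⟩⟩).finrank_eq.symm

include hM in
/-- The number of characters of the principal block, from the local Brauer ranks. -/
theorem card_formula (hab : IsMulCommutative (P : Subgroup G))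
    (he : (index (P : Subgroup G)).Prime)
    (hl' : blockRank 2 (principalBlock M G) = index (P : Subgroup G)) :
    Nat.card (principalBlock M G) * index (P : Subgroup G) + Nat.card (fixed (P : Subgroup G)) =
      Nat.card (fixed (P : Subgroup G)) * index (P : Subgroup G) ^ 2 + Nat.card P := by
  have : Fact (Nat.Prime 2) := ⟨Nat.prime_two⟩
  set Q := fixed (P : Subgroup G) with hQdef
  have hQP : Q ≤ (P : Subgroup G) := inf_le_left
  have := Fintype.ofFinite (P : Subgroup G)
  set c := principalBlock M (Subgroup.centralizer ((P : Subgroup G) : Set G))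
  have hmax := isMaximalBrauerPair_principal hM P
  have hcomm : ∀ x ∈ (P : Subgroup G), ∀ y ∈ (P : Subgroup G), x * y = y * x := fun x hx y hy =>
    congrArg Subtype.val (hab.is_comm.comm (⟨x, hx⟩ : (P : Subgroup G)) ⟨y, hy⟩)
  have hst : ∀ t, t ∈ pairStab (P : Subgroup G) c ↔
      t ∈ Subgroup.normalizer ((P : Subgroup G) : Set G) := fun t => by
    rw [mem_pairStab]
    exact ⟨fun h => h.1, fun h => ⟨h, stabilizesBlock_principal (normalizer_le_normalizer_centralizer _ h)⟩⟩
  have hin : ∀ v : (P : Subgroup G), (v : G) ∈ Q →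
      localRank 2 M (P : Subgroup G) c (Subgroup.zpowers (v : G)) = index (P : Subgroup G) ∧
        orbitSize (P : Subgroup G) c (v : G) = 1 := by
    intro v hv
    have hfix := (mem_fixed.1 hv).2
    refine ⟨?_, ?_⟩
    · have h := localRank_sup_fixed hM hmax hcomm v.2 (fun t ht => hfix t ((hst t).1 ht))
        (one_mem (P : Subgroup G))
      rw [Subgroup.zpowers_one_eq_bot, sup_bot_eq, localRank_bot hM hmax, hl'] at h
      exact h.symm
    · rw [orbitSize, Nat.card_eq_one_iff_unique]
      refine ⟨⟨fun a b => ?_⟩, ⟨⟨v, 1, one_mem _, by simp⟩⟩⟩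
      obtain ⟨a, t, ht, hta⟩ := a
      obtain ⟨b, s, hs, hsb⟩ := b
      rw [hfix t ((hst t).1 ht)] at hta
      rw [hfix s ((hst s).1 hs)] at hsb
      exact Subtype.ext (Subtype.ext (hta.symm.trans hsb))
  have hout : ∀ v : (P : Subgroup G), (v : G) ∉ Q →
      localRank 2 M (P : Subgroup G) c (Subgroup.zpowers (v : G)) = 1 ∧
        orbitSize (P : Subgroup G) c (v : G) = index (P : Subgroup G) := by
    intro v hv
    refine ⟨?_, ?_⟩
    · obtain ⟨f, -, hfB, hr⟩ := exists_localRank hM hmax (Subgroup.zpowers_le.2 v.2)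
      rw [hr, (isBrauerPairOf_principal_iff hM (P.isPGroup'.to_le (Subgroup.zpowers_le.2 v.2))).1 hfB,
        CharAction.blockRank_principal_eq_one_iff hM]
      refine CfsgLib.Transfer.hasNormalPComplement_of_injective
        (Subgroup.inclusion (Subgroup.centralizer_le ?_)) (Subgroup.inclusion_injective _)
        (hasNormalPComplement_centralizer hab he v.2 hv)
      exact Set.singleton_subset_iff.2 (Subgroup.mem_zpowers _)
    · set f := Subgroup.normalizerMonoidHom (P : Subgroup G)
      have hcard : Nat.card f.range = index (P : Subgroup G) := by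
        rw [← Subgroup.index_ker, Subgroup.normalizerMonoidHom_ker]
        rfl
      rw [orbitSize, ← hcard]
      refine (Nat.card_congr (Equiv.ofBijective (fun σ : f.range => (⟨(σ : MulAut (P : Subgroup G)) v, ?_⟩ :
        {w : (P : Subgroup G) // ∃ t ∈ pairStab (P : Subgroup G) c, t * (v : G) * t⁻¹ = (w : G)}))
        ⟨?_, ?_⟩)).symm
      · obtain ⟨⟨t, ht⟩, htσ⟩ := σ.2
        exact ⟨t, (hst t).2 ht, by rw [← htσ]; rfl⟩
      · rintro ⟨_, ⟨t, ht⟩, rfl⟩ ⟨_, ⟨s, hs⟩, rfl⟩ h
        have h1 : t * (v : G) * t⁻¹ = s * (v : G) * s⁻¹ :=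
          congrArg (fun w => ((w : (P : Subgroup G)) : G)) (congrArg Subtype.val h)
        refine Subtype.ext (MulEquiv.ext fun w => Subtype.ext ?_)
        show t * (w : G) * t⁻¹ = s * (w : G) * s⁻¹
        have hfix : (s⁻¹ * t) * (v : G) * (s⁻¹ * t)⁻¹ = v := by
          calc (s⁻¹ * t) * (v : G) * (s⁻¹ * t)⁻¹ = s⁻¹ * (t * v * t⁻¹) * s := by group
            _ = s⁻¹ * (s * v * s⁻¹) * s := by rw [h1]
            _ = v := by group
        have hC : s⁻¹ * t ∈ Subgroup.centralizer ((P : Subgroup G) : Set G) := by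
          by_contra hC
          exact hv (mem_fixed_of_fix he v.2 (mul_mem (inv_mem hs) ht) hC hfix)
        have h2 := Subgroup.mem_centralizer_iff.1 hC w w.2
        calc t * (w : G) * t⁻¹ = s * ((s⁻¹ * t) * w) * t⁻¹ := by group
          _ = s * (w * (s⁻¹ * t)) * t⁻¹ := by rw [← h2]
          _ = s * w * s⁻¹ := by group
      · rintro ⟨w, t, ht, htw⟩
        exact ⟨⟨_, ⟨t, (hst t).1 ht⟩, rfl⟩, Subtype.ext (Subtype.ext htw)⟩
  haveI : DecidablePred fun v : (P : Subgroup G) => (v : G) ∈ Q := Classical.decPred _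
  have hsum := Watanabe.card_eq_sum hM hmax hcomm
  rw [← Finset.sum_filter_add_sum_filter_not (Finset.univ (α := (P : Subgroup G)))
    (fun v : (P : Subgroup G) => (v : G) ∈ Q)] at hsum
  rw [Finset.sum_congr rfl (g := fun _ => (index (P : Subgroup G) : ℂ)) fun v hv => by
      obtain ⟨h1, h2⟩ := hin v (Finset.mem_filter.1 hv).2
      rw [h1, h2, Nat.cast_one, div_one],
    Finset.sum_congr (s₂ := Finset.univ.filter fun v : (P : Subgroup G) => ¬ (v : G) ∈ Q) rfl
      (g := fun _ => (1 : ℂ) / (index (P : Subgroup G) : ℂ)) fun v hv => by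
      obtain ⟨h1, h2⟩ := hout v (Finset.mem_filter.1 hv).2
      rw [h1, h2, Nat.cast_one],
    Finset.sum_const, Finset.sum_const, nsmul_eq_mul, nsmul_eq_mul] at hsum
  have hfilter : (Finset.univ.filter fun v : (P : Subgroup G) => (v : G) ∈ Q).card = Nat.card Q := by
    rw [← Fintype.card_subtype, ← Nat.card_eq_fintype_card]
    exact Nat.card_congr (Subgroup.subgroupOfEquivOfLe hQP).toEquiv
  have h3 := Finset.card_filter_add_card_filter_not (s := Finset.univ (α := (P : Subgroup G)))
    (fun v : (P : Subgroup G) => (v : G) ∈ Q)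
  rw [hfilter, Finset.card_univ, ← Nat.card_eq_fintype_card] at h3
  rw [hfilter] at hsum
  set r := (Finset.univ.filter fun v : (P : Subgroup G) => ¬ (v : G) ∈ Q).card with hr
  have he0 : (index (P : Subgroup G) : ℂ) ≠ 0 := Nat.cast_ne_zero.2 he.ne_zero
  have hk : ((Nat.card (principalBlock M G) * index (P : Subgroup G) : ℕ) : ℂ) =
      ((Nat.card Q * index (P : Subgroup G) ^ 2 + r : ℕ) : ℂ) := by
    push_cast
    rw [hsum]
    field_simp
  have hk' := Nat.cast_injective hk
  change Nat.card (principalBlock M G) * index (P : Subgroup G) + Nat.card Q =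
    Nat.card Q * index (P : Subgroup G) ^ 2 + Nat.card (P : Subgroup G)
  omega

include hM in
/-- The statement when the odd core is trivial. -/
theorem of_oddCore_eq_bot (hab : IsMulCommutative (P : Subgroup G))
    (he : (index (P : Subgroup G)).Prime) (hO : oddCore G = ⊥) (hrec : Recognition.{u}) :
    blockRank 2 (principalBlock M G) = index (P : Subgroup G) ∧
      (¬ Group.IsSolvable G → Nat.card (principalBlock M G) = Nat.card P) := by
  have : Fact (Nat.Prime 2) := ⟨Nat.prime_two⟩
  set Q := fixed (P : Subgroup G) with hQdef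
  have hQc : Q ≤ Subgroup.center G := fixed_le_center hO hab
  have : Q.Normal := ⟨fun y hy g => by
    rwa [Subgroup.mem_center_iff.1 (hQc hy) g, mul_inv_cancel_right]⟩
  have hQP : Q ≤ (P : Subgroup G) := inf_le_left
  obtain ⟨a, hQa⟩ := IsPGroup.iff_card.1 (P.isPGroup'.to_le hQP)
  have := Fintype.ofFinite (G ⧸ Q)
  have hidx : index ((image Q P : Sylow 2 (G ⧸ Q)) : Subgroup (G ⧸ Q)) = index (P : Subgroup G) :=
    index_image Q fun n hn x hx h => fix_of_commutator_mem hab hx hn h
  have hQbar : fixed ((image Q P : Sylow 2 (G ⧸ Q)) : Subgroup (G ⧸ Q)) = ⊥ := by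
    rw [Subgroup.eq_bot_iff_forall]
    intro q hq
    obtain ⟨hqP, hfix⟩ := mem_fixed.1 hq
    rw [coe_image] at hqP
    obtain ⟨x, hx, rfl⟩ := hqP
    refine (QuotientGroup.eq_one_iff x).2 (mem_fixed.2 ⟨hx, fun n hn => ?_⟩)
    have h := hfix (QuotientGroup.mk' Q n) (by rw [normalizer_image]; exact ⟨n, hn, rfl⟩)
    refine fix_of_commutator_mem hab hx hn ((QuotientGroup.eq_one_iff _).1 ?_)
    show QuotientGroup.mk' Q (x⁻¹ * (n * x * n⁻¹)) = 1
    rw [map_mul, map_mul, map_mul, map_inv, map_inv, h, inv_mul_cancel]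
  obtain ⟨hl, hk⟩ := free_case (M := M) hM (P := image Q P) (isMulCommutative_image Q hab)
    (hidx ▸ he) hQbar (oddCore_quotient hO Q hQc (P.isPGroup'.to_le hQP)) hrec
  have hb : DefectBound.quotBlock Q (principalBlock M G) = principalBlock M (G ⧸ Q) := by
    have h1 := DefectBound.isPBlock_quotBlock Q hM isPBlock_principalBlock hQc hQa
    refine IsPBlock.eq_blockOf h1 (χ := Char.trivChar (G ⧸ Q)) ?_
    show inflate Q (Char.trivChar (G ⧸ Q)) ∈ principalBlock M G
    rw [show inflate Q (Char.trivChar (G ⧸ Q)) = Char.trivChar G from Subtype.ext rfl]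
    exact trivChar_mem_principalBlock
  have hl' : blockRank 2 (principalBlock M G) = index (P : Subgroup G) := by
    rw [DefectBound.blockRank_quotBlock Q hM isPBlock_principalBlock hQc hQa, hb, hl, hidx]
  refine ⟨hl', fun hns => ?_⟩
  have hns' : ¬ Group.IsSolvable (G ⧸ Q) := fun h => hns <| by
    have : Group.IsSolvable Q := Group.isSolvable_of_comm fun x y =>
      Subtype.ext (Subgroup.mem_center_iff.1 (hQc y.2) x)
    exact (Group.isSolvable_iff_subgroup_quotient Q).2 ⟨this, h⟩
  obtain ⟨-, hPbar⟩ := hk hns'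
  rw [hidx] at hPbar
  -- the order of `P`
  have hPcard : Nat.card P = Nat.card Q * (index (P : Subgroup G) + 1) := by
    have h1 := Subgroup.relIndex_ker (f := QuotientGroup.mk' Q) (K := (P : Subgroup G))
    rw [QuotientGroup.ker_mk'] at h1
    have h2 := Subgroup.card_mul_index (Q.subgroupOf (P : Subgroup G))
    rw [Nat.card_congr (Subgroup.subgroupOfEquivOfLe hQP).toEquiv] at h2
    rw [← hPbar, ← h2]
    congr 1
  -- the count over the orbits
  have hsum := card_formula hM hab he hl'
  rw [hPcard] at hsum ⊢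
  apply Nat.eq_of_mul_eq_mul_right he.pos
  nlinarith

/-- The general statement. -/
theorem main {G : Type u} [Group G] [Finite G] (hrec : Recognition.{u}) (M : Ideal AlgInt)
    (hM : IsPModular 2 M) (P : Sylow 2 G) (hab : IsMulCommutative P)
    (he : ((Subgroup.centralizer ((P : Subgroup G) : Set G)).relIndex
      (Subgroup.normalizer ((P : Subgroup G) : Set G))).Prime) :
    blockRank 2 (principalBlock M G) = (Subgroup.centralizer ((P : Subgroup G) : Set G)).relIndex
        (Subgroup.normalizer ((P : Subgroup G) : Set G)) ∧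
      (¬ Group.IsSolvable G → Nat.card (principalBlock M G) = Nat.card P) := by
  have := Fintype.ofFinite G
  have := hM.2.1.isPrime
  have : Fact (Nat.Prime 2) := ⟨Nat.prime_two⟩
  set N := oddCore G
  have : N.Normal := by show (pPrimeCore 2 G).Normal; infer_instance
  have := Fintype.ofFinite (G ⧸ N)
  have hodd : Odd (Nat.card N) := CfsgLib.ZStar.odd_card_oddCore G
  have hPN : (P : Subgroup G) ⊓ N = ⊥ := by
    obtain ⟨k, hk⟩ := IsPGroup.iff_card.1 P.isPGroup'
    exact (Subgroup.disjoint_of_coprime_natCard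
      (hk ▸ (Nat.coprime_two_left.2 hodd).pow_left k)).eq_bot
  have hidx : index ((image N P : Sylow 2 (G ⧸ N)) : Subgroup (G ⧸ N)) = index (P : Subgroup G) := by
    refine index_image N fun n hn x hx h => ?_
    have h1 : x⁻¹ * (n * x * n⁻¹) ∈ (P : Subgroup G) ⊓ N :=
      Subgroup.mem_inf.2 ⟨mul_mem (inv_mem hx) ((Subgroup.mem_normalizer_iff.1 hn x).1 hx), h⟩
    rw [hPN, Subgroup.mem_bot, inv_mul_eq_one] at h1
    exact h1.symm
  have hcard : Nat.card (image N P : Sylow 2 (G ⧸ N)) = Nat.card P := by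
    have h1 := Subgroup.relIndex_ker (f := QuotientGroup.mk' N) (K := (P : Subgroup G))
    rw [QuotientGroup.ker_mk', ← Subgroup.inf_relIndex_right, inf_comm, hPN,
      Subgroup.relIndex_bot_left] at h1
    exact (congrArg (fun H : Subgroup (G ⧸ N) => Nat.card H) (coe_image N)).trans h1.symm
  have hO : oddCore (G ⧸ N) = ⊥ := CfsgLib.Core.pPrimeCore_quotient_pPrimeCore 2 G
  obtain ⟨h1, h2⟩ := of_oddCore_eq_bot hM (P := image N P) (isMulCommutative_image N hab)
    (hidx ▸ he) hO hrec
  obtain ⟨hk, hl⟩ := principal_quotient hM N hodd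
  refine ⟨by rw [hl, h1, hidx]; rfl, fun hns => ?_⟩
  rw [hk, ← hcard]
  refine h2 fun h => hns ?_
  exact (Group.isSolvable_iff_subgroup_quotient N).2 ⟨Cfsg.Agent.S0205.result hodd, h⟩

end CfsgLib.PrimeInertial
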