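import Cfsg.Agent.Lib.Blocks.PrimeInertial.Basic
import Mathlib.GroupTheory.SchurZassenhaus

/-!
# Passage to quotients

The inertial index does not change modulo the odd core or modulo the fixed part, and the fixed part is
central when the odd core is trivial.
-/

set_option autoImplicit false

namespace CfsgLib.PrimeInertial

open Cfsg

universe u

variable {G : Type u} [Group G] [Finite G] {P : Sylow 2 G}

section Map

variable (N : Subgroup G) [N.Normal]

/-- The image of a Sylow two-subgroup in a quotient. -/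
noncomputable def image (P : Sylow 2 G) : Sylow 2 (G ⧸ N) :=
  P.mapSurjective (QuotientGroup.mk'_surjective N)

theorem coe_image : ((image N P : Sylow 2 (G ⧸ N)) : Subgroup (G ⧸ N)) =
    (P : Subgroup G).map (QuotientGroup.mk' N) :=
  Sylow.coe_mapSurjective _ P

/-- The normalizer of the image is the image of the normalizer. -/
theorem normalizer_image :
    Subgroup.normalizer (((image N P : Sylow 2 (G ⧸ N)) : Subgroup (G ⧸ N)) : Set (G ⧸ N)) =
      (Subgroup.normalizer ((P : Subgroup G) : Set G)).map (QuotientGroup.mk' N) := by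
  set f := QuotientGroup.mk' N
  refine le_antisymm (fun q hq => ?_) ?_
  · obtain ⟨g, rfl⟩ := QuotientGroup.mk'_surjective N q
    set H := ((image N P : Sylow 2 (G ⧸ N)) : Subgroup (G ⧸ N)).comap f with hH
    have hPH : (P : Subgroup G) ≤ H := fun x hx => by
      rw [hH, Subgroup.mem_comap, coe_image]
      exact ⟨x, hx, rfl⟩
    have hgPH : ((g • P : Sylow 2 G) : Subgroup G) ≤ H := by
      rintro _ ⟨x, hx, rfl⟩
      have h1 : f x ∈ ((image N P : Sylow 2 (G ⧸ N)) : Subgroup (G ⧸ N)) := hPH hx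
      have h2 := (Subgroup.mem_normalizer_iff.1 hq (f x)).1 h1
      rw [hH, Subgroup.mem_comap]
      show f (g * x * g⁻¹) ∈ _
      rwa [map_mul, map_mul, map_inv]
    obtain ⟨h, hh⟩ := MulAction.exists_smul_eq H ((g • P).subtype hgPH) (P.subtype hPH)
    have h1 : ∀ x ∈ (P : Subgroup G), ((h : G) * g) * x * ((h : G) * g)⁻¹ ∈ (P : Subgroup G) := by
      intro x hx
      have hx' : g * x * g⁻¹ ∈ ((g • P : Sylow 2 G) : Subgroup G) := ⟨x, hx, rfl⟩
      have hm : h * (⟨_, hgPH hx'⟩ : H) * h⁻¹ ∈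
          ((h • (g • P).subtype hgPH : Sylow 2 H) : Subgroup H) :=
        ⟨⟨_, hgPH hx'⟩, hx', rfl⟩
      rw [hh] at hm
      have : (h : G) * (g * x * g⁻¹) * (h : G)⁻¹ ∈ (P : Subgroup G) := hm
      convert this using 1
      group
    obtain ⟨y, hy, hyh⟩ : ∃ y ∈ (P : Subgroup G), f y = f h := by
      have h2 : f (h : G) ∈ ((image N P : Sylow 2 (G ⧸ N)) : Subgroup (G ⧸ N)) := h.2
      rw [coe_image] at h2
      obtain ⟨y, hy, e⟩ := h2
      exact ⟨y, hy, e⟩
    refine ⟨y⁻¹ * ((h : G) * g), mul_mem (inv_mem (Subgroup.le_normalizer hy)) ?_, ?_⟩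
    · refine Subgroup.mem_normalizer_iff.2 fun x => ⟨h1 x, fun hx => ?_⟩
      have : (P : Subgroup G).map (MulAut.conj ((h : G) * g)).toMonoidHom = (P : Subgroup G) := by
        refine Subgroup.eq_of_le_of_card_ge ?_ (Subgroup.card_map_of_injective (MulEquiv.injective _)).ge
        rintro _ ⟨z, hz, rfl⟩
        exact h1 z hz
      rw [← this] at hx
      obtain ⟨z, hz, e⟩ := hx
      have : z = x := (MulAut.conj ((h : G) * g)).injective e
      rwa [← this]
    · rw [map_mul, map_mul, map_inv, hyh, inv_mul_cancel_left]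
  · rintro _ ⟨n, hn, rfl⟩
    rw [coe_image]
    exact Subgroup.le_normalizer_map (f := f) (H := (P : Subgroup G)) ⟨n, hn, rfl⟩

/-- The index is kept when commutators falling into `N` are trivial. -/
theorem index_image
    (hfix : ∀ n ∈ Subgroup.normalizer ((P : Subgroup G) : Set G), ∀ x ∈ (P : Subgroup G),
      x⁻¹ * (n * x * n⁻¹) ∈ N → n * x * n⁻¹ = x) :
    index ((image N P : Sylow 2 (G ⧸ N)) : Subgroup (G ⧸ N)) = index (P : Subgroup G) := by
  rw [index, index, normalizer_image, ← Subgroup.relIndex_comap]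
  conv_lhs => rw [← Subgroup.inf_relIndex_right]
  conv_rhs => rw [← Subgroup.inf_relIndex_right]
  congr 1
  ext n
  simp only [Subgroup.mem_inf, Subgroup.mem_comap, coe_image]
  refine and_congr_left fun hn => ⟨fun h => Subgroup.mem_centralizer_iff.2 fun x hx => ?_,
    fun h => Subgroup.mem_centralizer_iff.2 ?_⟩
  · have e := Subgroup.mem_centralizer_iff.1 h _ (Subgroup.mem_map_of_mem _ hx)
    refine (mul_inv_eq_iff_eq_mul.1 (hfix n hn x hx ?_)).symm
    rw [← QuotientGroup.eq_one_iff]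
    show QuotientGroup.mk' N (x⁻¹ * (n * x * n⁻¹)) = 1
    rw [map_mul, map_mul, map_mul, map_inv, map_inv, ← e]
    group
  · rintro _ ⟨x, hx, rfl⟩
    rw [← map_mul, ← map_mul, Subgroup.mem_centralizer_iff.1 h x hx]

omit [Finite G] in
theorem isMulCommutative_map (hab : IsMulCommutative (P : Subgroup G)) :
    IsMulCommutative ((P : Subgroup G).map (QuotientGroup.mk' N)) :=
  ⟨⟨fun a b => by
    obtain ⟨_, x, hx, rfl⟩ := a
    obtain ⟨_, y, hy, rfl⟩ := b
    refine Subtype.ext ?_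
    show QuotientGroup.mk' N x * QuotientGroup.mk' N y = QuotientGroup.mk' N y * QuotientGroup.mk' N x
    rw [← map_mul, ← map_mul]
    exact congrArg _ (congrArg Subtype.val (hab.is_comm.comm (⟨x, hx⟩ : (P : Subgroup G)) ⟨y, hy⟩))⟩⟩

theorem isMulCommutative_image (hab : IsMulCommutative (P : Subgroup G)) :
    IsMulCommutative ((image N P : Sylow 2 (G ⧸ N)) : Subgroup (G ⧸ N)) := by
  rw [coe_image]
  exact isMulCommutative_map N hab

theorem image_fixed {x : G} (hx : x ∈ fixed (P : Subgroup G)) :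
    (x : G ⧸ N) ∈ fixed ((image N P : Sylow 2 (G ⧸ N)) : Subgroup (G ⧸ N)) := by
  obtain ⟨hxP, hfix⟩ := mem_fixed.1 hx
  refine mem_fixed.2 ⟨?_, fun q hq => ?_⟩
  · rw [coe_image]; exact ⟨x, hxP, rfl⟩
  · rw [normalizer_image] at hq
    obtain ⟨n, hn, rfl⟩ := hq
    show QuotientGroup.mk' N n * QuotientGroup.mk' N x * (QuotientGroup.mk' N n)⁻¹ =
      QuotientGroup.mk' N x
    rw [← map_inv, ← map_mul, ← map_mul, hfix n hn]

end Map

/-- The odd core of a quotient by a central two-subgroup. -/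
theorem oddCore_quotient (hO : oddCore G = ⊥) (Z : Subgroup G) [Z.Normal]
    (hZc : Z ≤ Subgroup.center G) (hZ2 : IsPGroup 2 Z) : oddCore (G ⧸ Z) = ⊥ := by
  set K := (oddCore (G ⧸ Z)).comap (QuotientGroup.mk' Z) with hK
  have hZK : Z ≤ K := fun z hz => by
    rw [hK, Subgroup.mem_comap, QuotientGroup.mk'_apply, (QuotientGroup.eq_one_iff z).2 hz]
    exact one_mem _
  have hKn : K.Normal := by
    have : (oddCore (G ⧸ Z)).Normal := by show (pPrimeCore 2 (G ⧸ Z)).Normal; infer_instance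
    exact Subgroup.Normal.comap this _
  have hidx : (Z.subgroupOf K).index = Nat.card (oddCore (G ⧸ Z)) := by
    have h1 := Subgroup.relIndex_ker (f := QuotientGroup.mk' Z) (K := K)
    rw [QuotientGroup.ker_mk'] at h1
    rw [show (Z.subgroupOf K).index = Z.relIndex K from rfl, h1, hK,
      Subgroup.map_comap_eq_self_of_surjective (QuotientGroup.mk'_surjective _)]
  have hodd : Odd (Z.subgroupOf K).index := hidx ▸ CfsgLib.ZStar.odd_card_oddCore _
  obtain ⟨a, ha⟩ := IsPGroup.iff_card.1 hZ2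
  have hcard : Nat.card (Z.subgroupOf K) = 2 ^ a := by
    rw [Nat.card_congr (Subgroup.subgroupOfEquivOfLe hZK).toEquiv, ha]
  obtain ⟨W, hW⟩ := Subgroup.exists_right_complement'_of_coprime (N := Z.subgroupOf K)
    (hcard ▸ (Nat.coprime_two_left.2 hodd).pow_left a)
  set W' := W.map K.subtype with hW'
  have hWodd : Odd (Nat.card W') := by
    rw [hW', Subgroup.card_map_of_injective K.subtype_injective,
      ← (Subgroup.IsComplement'.symm hW).index_eq_card]
    exact hodd
  have hsplit : ∀ k ∈ K, ∃ z ∈ Z, ∃ w ∈ W', z * w = k := fun k hk => by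
    obtain ⟨⟨⟨z, hz⟩, ⟨w, hw⟩⟩, e⟩ := hW.surjective ⟨k, hk⟩
    exact ⟨z, hz, w, ⟨w, hw, rfl⟩, congrArg Subtype.val e⟩
  have hWn : W'.Normal := ⟨fun w hw g => by
    obtain ⟨w₀, hw₀, rfl⟩ := hw
    obtain ⟨z, hz, w₁, hw₁, e⟩ := hsplit _ (hKn.conj_mem _ w₀.2 g)
    change g * (w₀ : G) * g⁻¹ ∈ W'
    suffices z = 1 by rw [← e, this, one_mul]; exact hw₁
    have hc : Commute z w₁ := (Subgroup.mem_center_iff.1 (hZc hz) w₁).symm
    have h1 : orderOf z ∣ 2 ^ a := ha ▸ Subgroup.orderOf_dvd_natCard _ hz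
    have hzodd : (z * w₁) ^ Nat.card W' = 1 := by
      rw [e]
      show (g * (w₀ : G) * g⁻¹) ^ Nat.card W' = 1
      rw [conj_pow, show (w₀ : G) ^ Nat.card W' = 1 from
        orderOf_dvd_iff_pow_eq_one.1 (Subgroup.orderOf_dvd_natCard _ ⟨w₀, hw₀, rfl⟩)]
      group
    rw [hc.mul_pow, orderOf_dvd_iff_pow_eq_one.1 (Subgroup.orderOf_dvd_natCard _ hw₁), mul_one]
      at hzodd
    exact orderOf_eq_one_iff.1 (Nat.eq_one_of_dvd_coprimes
      ((Nat.coprime_two_left.2 hWodd).pow_left a) h1 (orderOf_dvd_of_pow_eq_one hzodd))⟩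
  have hW1 : W' = ⊥ := le_bot_iff.1 (hO ▸ CfsgLib.ZStar.le_oddCore hWn hWodd)
  refine le_bot_iff.1 fun q hq => ?_
  obtain ⟨g, rfl⟩ := QuotientGroup.mk'_surjective Z q
  obtain ⟨z, hz, w, hw, rfl⟩ := hsplit g hq
  rw [hW1, Subgroup.mem_bot] at hw
  rw [hw, mul_one]
  exact (QuotientGroup.eq_one_iff z).2 hz

/-- Conjugates in `P` of an element fixed by the normalizer are equal to it. -/
theorem fused_eq (hab : IsMulCommutative (P : Subgroup G)) {x : G}
    (hx : x ∈ fixed (P : Subgroup G)) {g : G} (hg : g⁻¹ * x * g ∈ (P : Subgroup G)) :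
    g⁻¹ * x * g = x := by
  obtain ⟨hxP, hfix⟩ := mem_fixed.1 hx
  obtain ⟨n, hn, hne⟩ := CfsgLib.Transfer.exists_normalizer_conj_of_isMulCommutative P hab
    (X := {x}) (Set.singleton_subset_iff.2 hxP) (g := g)
    (by rw [Set.image_singleton]; exact Set.singleton_subset_iff.2 hg)
  rw [← hne x rfl]
  simpa using hfix n⁻¹ (inv_mem hn)

theorem fixed_le_center_pow : ∀ (k : ℕ) {G : Type u} [Group G] [Finite G], oddCore G = ⊥ →
    ∀ (P : Sylow 2 G), IsMulCommutative (P : Subgroup G) →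
    ∀ x ∈ fixed (P : Subgroup G), orderOf x = 2 ^ k → x ∈ Subgroup.center G := by
  intro k
  induction k with
  | zero =>
    intro G _ _ _ P _ x _ hx
    rw [pow_zero, orderOf_eq_one_iff] at hx
    exact hx ▸ one_mem _
  | succ k ih =>
    intro G _ _ hO P hab x hx hxk
    set z := x ^ 2 ^ k with hz
    have hz2 : orderOf z = 2 := by
      rw [hz, orderOf_pow' _ (pow_ne_zero k two_ne_zero), hxk, pow_succ, Nat.gcd_mul_right_left,
        Nat.mul_div_cancel_left _ (pow_pos two_pos k)]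
    have hzc : z ∈ Subgroup.center G :=
      fixed_le_center_aux hab hO (Subgroup.pow_mem _ hx _) hz2
    set Z := Subgroup.zpowers z
    have hZc : Z ≤ Subgroup.center G := Subgroup.zpowers_le.2 hzc
    have : Z.Normal := ⟨fun y hy g => by
      rwa [Subgroup.mem_center_iff.1 (hZc hy) g, mul_inv_cancel_right]⟩
    have hZ2 : IsPGroup 2 Z := IsPGroup.of_card (n := 1) (by rw [Nat.card_zpowers, hz2, pow_one])
    have hpow : ∀ j : ℕ, (x : G ⧸ Z) ^ j = ((x ^ j : G) : G ⧸ Z) := fun j => rfl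
    obtain ⟨j, hj, hjx⟩ : ∃ j ≤ k, orderOf (x : G ⧸ Z) = 2 ^ j :=
      (Nat.dvd_prime_pow Nat.prime_two).1 (orderOf_dvd_of_pow_eq_one (by
        rw [hpow, ← hz, QuotientGroup.eq_one_iff]
        exact Subgroup.mem_zpowers z))
    rcases Nat.lt_or_ge j k with hjk | hjk
    · exfalso
      have h1 : x ^ 2 ^ j ∈ Z := by
        rw [← QuotientGroup.eq_one_iff, ← hpow, ← hjx, pow_orderOf_eq_one]
      have h2 : (x ^ 2 ^ j) ^ 2 = 1 := by
        refine orderOf_dvd_iff_pow_eq_one.1 ((Subgroup.orderOf_dvd_natCard _ h1).trans ?_)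
        rw [Nat.card_zpowers, hz2]
      rw [← pow_mul, ← pow_succ, ← orderOf_dvd_iff_pow_eq_one, hxk,
        Nat.pow_dvd_pow_iff_le_right (by norm_num)] at h2
      omega
    · obtain rfl : j = k := le_antisymm hj hjk
      have hc := ih (oddCore_quotient hO Z hZc hZ2) (image Z P) (isMulCommutative_image Z hab) _
        (image_fixed Z hx) hjx
      refine Subgroup.mem_center_iff.2 fun g => ?_
      have e := Subgroup.mem_center_iff.1 hc ((g : G ⧸ Z)⁻¹)
      have hm : x⁻¹ * (g⁻¹ * x * g) ∈ Z := by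
        rw [← QuotientGroup.eq_one_iff]
        show (x : G ⧸ Z)⁻¹ * ((g : G ⧸ Z)⁻¹ * (x : G ⧸ Z) * (g : G ⧸ Z)) = 1
        rw [e]
        group
      have hP : g⁻¹ * x * g ∈ (P : Subgroup G) := by
        have hZP : Z ≤ (P : Subgroup G) :=
          Subgroup.zpowers_le.2 (Subgroup.pow_mem _ (mem_fixed.1 hx).1 _)
        simpa [mul_assoc] using mul_mem (mem_fixed.1 hx).1 (hZP hm)
      have := fused_eq hab hx hP
      calc g * x = g * (g⁻¹ * x * g) := by rw [this]
        _ = x * g := by group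

/-- The fixed part is central when the odd core is trivial. -/
theorem fixed_le_center (hO : oddCore G = ⊥) (hab : IsMulCommutative (P : Subgroup G)) :
    fixed (P : Subgroup G) ≤ Subgroup.center G := fun x hx => by
  obtain ⟨k, hk⟩ := IsPGroup.iff_orderOf.1 P.isPGroup' ⟨x, (mem_fixed.1 hx).1⟩
  exact fixed_le_center_pow k hO P hab x hx (by rw [← hk, Subgroup.orderOf_mk])

end CfsgLib.PrimeInertial
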