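import Cfsg.Agent.Lib.Blocks.PrimeInertial.Basic
import Cfsg.Agent.Lib.Components.FStar
import Cfsg.Agent.Lib.Components.Radicals

/-!
# The structure in the fixed point free case

With trivial odd core and trivial fixed part, either the Sylow two-subgroup is normal or a simple
normal subgroup contains it and its centralizers of involutions have normal two-complements.
-/

set_option autoImplicit false

namespace CfsgLib.PrimeInertial

open Cfsg

universe u

variable {G : Type u} [Group G] [Finite G] {P : Sylow 2 G}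

/-- A subgroup inside the centralizer of a nontrivial element has a normal two-complement. -/
theorem hasNormalPComplement_of_le (hab : IsMulCommutative (P : Subgroup G))
    (hfr : IsFreeAction P) {x : G}
    (hx : x ∈ (P : Subgroup G)) (hx1 : x ≠ 1) {H : Subgroup G}
    (hH : H ≤ Subgroup.centralizer ({x} : Set G)) : HasNormalPComplement 2 H :=
  have : Fact (Nat.Prime 2) := ⟨Nat.prime_two⟩
  CfsgLib.Transfer.hasNormalPComplement_of_injective (Subgroup.inclusion hH)
    (Subgroup.inclusion_injective hH)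
    (hasNormalPComplement_centralizer_of_fix hab hx fun n hn => hfr n hn x hx hx1)

/-- An element of even order gives a nontrivial element of `P` conjugate to one of its powers. -/
theorem exists_conj_mem_of_dvd (P : Sylow 2 G) (H : Subgroup G) (h : 2 ∣ Nat.card H) :
    ∃ g x : G, x ∈ H ∧ x ≠ 1 ∧ g * x * g⁻¹ ∈ (P : Subgroup G) := by
  have : Fact (Nat.Prime 2) := ⟨Nat.prime_two⟩
  obtain ⟨x, hx⟩ := exists_prime_orderOf_dvd_card' 2 h
  obtain ⟨S, hS⟩ := (IsPGroup.of_card (p := 2) (n := 1)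
    (show Nat.card (Subgroup.zpowers (x : G)) = 2 ^ 1 by
      rw [Nat.card_zpowers, Subgroup.orderOf_coe, hx, pow_one])).exists_le_sylow
  obtain ⟨g, hg⟩ := MulAction.exists_smul_eq G S P
  refine ⟨g, x, x.2, fun e => ?_, ?_⟩
  · rw [show x = 1 from Subtype.ext e, orderOf_one] at hx
    norm_num at hx
  · rw [← hg]
    exact ⟨x, hS (Subgroup.mem_zpowers _), rfl⟩

/-- A normal subgroup whose commutator with a nontrivial element of `P` is trivial is a two-group. -/
theorem isPGroup_of_centralized (hab : IsMulCommutative (P : Subgroup G))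
    (hfr : IsFreeAction P) (hO : oddCore G = ⊥)
    {x : G} (hx : x ∈ (P : Subgroup G)) (hx1 : x ≠ 1) {H : Subgroup G} [H.Normal]
    (hH : H ≤ Subgroup.centralizer ({x} : Set G)) : IsPGroup 2 H := by
  have : Fact (Nat.Prime 2) := ⟨Nat.prime_two⟩
  have h := hasNormalPComplement_of_le hab hfr hx hx1 hH
  obtain ⟨W, hWn, hWc, hWp⟩ := CfsgLib.Transfer.hasNormalPComplement_iff_exists.1 h
  have hW : W ≤ pPrimeCore 2 H := CfsgLib.Core.le_pPrimeCore hWc
  have hmap : (pPrimeCore 2 H).map H.subtype = ⊥ :=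
    le_bot_iff.1 (hO ▸ CfsgLib.Core.map_subtype_pPrimeCore_le H)
  have hW1 : W = ⊥ := le_bot_iff.1 (hW.trans
    (le_of_eq ((Subgroup.map_eq_bot_iff_of_injective _ H.subtype_injective).1 hmap)))
  subst hW1
  exact hWp.of_equiv QuotientGroup.quotientBot

/-- Either `P` is normal, or a simple normal subgroup of even order exists. -/
theorem normal_or_simple (hab : IsMulCommutative (P : Subgroup G))
    (hfr : IsFreeAction P) (hO : oddCore G = ⊥) :
    (P : Subgroup G).Normal ∨
      ∃ T : Subgroup G, T.Normal ∧ IsSimpleGroup T ∧ ¬ IsMulCommutative T ∧ 2 ∣ Nat.card T := by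
  have : Fact (Nat.Prime 2) := ⟨Nat.prime_two⟩
  rcases subsingleton_or_nontrivial G with hG | hG
  · left
    exact ⟨fun n hn g => by rw [Subsingleton.elim (g * n * g⁻¹) n]; exact hn⟩
  obtain ⟨A, hAn, hA1, hmin⟩ := CfsgLib.Components.exists_minimal_normal (G := G)
  have heven : 2 ∣ Nat.card A := by
    by_contra h
    rw [← even_iff_two_dvd, Nat.not_even_iff_odd] at h
    exact hA1 (le_bot_iff.1 (hO ▸ CfsgLib.ZStar.le_oddCore hAn h))
  by_cases hna : ⁅A, A⁆ = ⊥
  · left
    obtain ⟨g, x, hxA, hx1, hxP⟩ := exists_conj_mem_of_dvd P A heven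
    set y := g * x * g⁻¹
    have hyA : y ∈ A := hAn.conj_mem x hxA g
    have hy1 : y ≠ 1 := fun e => hx1 (by rwa [conj_eq_one_iff] at e)
    have hAP : A ≤ (P : Subgroup G) := by
      have hAC : A ≤ Subgroup.centralizer ({y} : Set G) := fun a ha =>
        Subgroup.mem_centralizer_singleton_iff.2
          (Subgroup.mem_centralizer_iff.1 (Subgroup.commutator_eq_bot_iff_le_centralizer.1 hna ha) y
            hyA).symm
      obtain ⟨S, hS⟩ := (isPGroup_of_centralized hab hfr hO hxP hy1 hAC).exists_le_sylow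
      obtain ⟨t, ht⟩ := MulAction.exists_smul_eq G S P
      rw [← ht]
      intro a ha
      exact ⟨t⁻¹ * a * t, hS (by simpa using hAn.conj_mem a ha t⁻¹), by
        show t * (t⁻¹ * a * t) * t⁻¹ = a
        group⟩
    have hCn : (Subgroup.centralizer (A : Set G)).Normal := inferInstance
    have hPC : (P : Subgroup G) ≤ Subgroup.centralizer (A : Set G) := fun p hp =>
      Subgroup.centralizer_le (fun a ha => hAP ha) (le_centralizer_self hab hp)
    have hCx : Subgroup.centralizer (A : Set G) ≤ Subgroup.centralizer ({y} : Set G) :=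
      Subgroup.centralizer_le (Set.singleton_subset_iff.2 hyA)
    have hC2 := isPGroup_of_centralized hab hfr hO hxP hy1 hCx
    have : Subgroup.centralizer (A : Set G) = (P : Subgroup G) := P.3 hC2 hPC
    rw [← this]
    exact hCn
  · right
    obtain ⟨hsup, hsimple⟩ := CfsgLib.Components.minimal_normal_eq_sSup_components hAn hmin hna
    obtain ⟨L, hL⟩ : {L : Subgroup G | IsComponent L ∧ L ≤ A}.Nonempty := by
      by_contra h
      rw [Set.not_nonempty_iff_eq_empty] at h
      rw [h, sSup_empty] at hsup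
      exact hA1 hsup
    obtain ⟨hLs, hLna⟩ := hsimple L hL.1 hL.2
    have hLeven : ∀ L : Subgroup G, IsComponent L → L ≤ A → 2 ∣ Nat.card L := by
      intro L hL hLA
      by_contra h
      rw [← even_iff_two_dvd, Nat.not_even_iff_odd] at h
      have h1 : L ≤ oddCore G := CfsgLib.Components.subnormal_coprime_le_pPrimeCore hL.1
        (Nat.coprime_two_right.2 h)
      rw [hO, le_bot_iff] at h1
      subst h1
      obtain ⟨hs, -⟩ := hsimple _ hL hLA
      exact (not_nontrivial_iff_subsingleton.2 inferInstance : ¬ Nontrivial (⊥ : Subgroup G))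
        inferInstance
    suffices A = L by
      subst this
      exact ⟨A, hAn, hLs, hLna, heven⟩
    refine le_antisymm (hsup.le.trans (sSup_le fun L' hL' => ?_)) hL.2
    rcases CfsgLib.Components.components_eq_or_commute hL'.1 hL.1 with h | h
    · exact h.le
    exfalso
    obtain ⟨g, x, hxL, hx1, hxP⟩ := exists_conj_mem_of_dvd P L (hLeven L hL.1 hL.2)
    obtain ⟨hs', hna'⟩ := hsimple L' hL'.1 hL'.2
    have hle : L'.map (MulAut.conj g).toMonoidHom ≤ Subgroup.centralizer ({g * x * g⁻¹} : Set G) := by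
      rintro _ ⟨z, hz, rfl⟩
      refine Subgroup.mem_centralizer_singleton_iff.2 ?_
      have e : x * z = z * x :=
        Subgroup.mem_centralizer_iff.1 (Subgroup.commutator_eq_bot_iff_le_centralizer.1 h hz) x hxL
      show g * z * g⁻¹ * (g * x * g⁻¹) = g * x * g⁻¹ * (g * z * g⁻¹)
      calc g * z * g⁻¹ * (g * x * g⁻¹) = g * (z * x) * g⁻¹ := by group
        _ = g * (x * z) * g⁻¹ := by rw [e]
        _ = _ := by group
    have h2 : HasNormalPComplement 2 L' := CfsgLib.Transfer.hasNormalPComplement_of_injective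
      ((L'.equivMapOfInjective (MulAut.conj g).toMonoidHom (MulEquiv.injective _)).toMonoidHom)
      (MulEquiv.injective _)
      (hasNormalPComplement_of_le hab hfr hxP (fun e => hx1 (by rwa [conj_eq_one_iff] at e)) hle)
    obtain ⟨W, hWn, hWc, hWp⟩ := CfsgLib.Transfer.hasNormalPComplement_iff_exists.1 h2
    rcases hWn.eq_bot_or_eq_top with rfl | rfl
    · have hp := hWp.of_equiv QuotientGroup.quotientBot
      have : Group.IsNilpotent L' := hp.isNilpotent
      exact hna' ⟨⟨IsSimpleGroup.comm_iff_isSolvable.2 inferInstance⟩⟩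
    · rw [Subgroup.card_top, Nat.coprime_two_right] at hWc
      exact Nat.not_even_iff_odd.2 hWc (even_iff_two_dvd.2 (hLeven L' hL'.1 hL'.2))

/-- A simple normal subgroup of even order contains `P`. -/
theorem le_simple (hab : IsMulCommutative (P : Subgroup G))
    (hfr : IsFreeAction P) {T : Subgroup G}
    [hTn : T.Normal] [IsSimpleGroup T] (hTna : ¬ IsMulCommutative T) (hT2 : 2 ∣ Nat.card T) :
    (P : Subgroup G) ≤ T ∧
      ∃ n ∈ T, n ∈ Subgroup.normalizer ((P : Subgroup G) : Set G) ∧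
        n ∉ Subgroup.centralizer ((P : Subgroup G) : Set G) := by
  have : Fact (Nat.Prime 2) := ⟨Nat.prime_two⟩
  obtain ⟨g, x, hxT, hx1, hxP⟩ := exists_conj_mem_of_dvd P T hT2
  set y := g * x * g⁻¹
  have hyT : y ∈ T := hTn.conj_mem x hxT g
  have hy1 : y ≠ 1 := fun e => hx1 (by rwa [conj_eq_one_iff] at e)
  set A := (P : Subgroup G) ⊓ T with hA
  -- `A` is a Sylow subgroup of `T`
  obtain ⟨S, hS⟩ := (P.isPGroup'.to_le (inf_le_left : A ≤ _)
    |>.comap_of_injective T.subtype T.subtype_injective).exists_le_sylow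
  obtain ⟨R, hR⟩ := (S.isPGroup'.map T.subtype).exists_le_sylow
  obtain ⟨t, ht⟩ := MulAction.exists_smul_eq G R P
  have hconj : ∀ s : T, s ∈ (S : Subgroup T) → t * (s : G) * t⁻¹ ∈ A := fun s hs =>
    ⟨by rw [← ht]; exact ⟨s, hR ⟨s, hs, rfl⟩, rfl⟩, hTn.conj_mem s s.2 t⟩
  have hSA : (S : Subgroup T) = A.subgroupOf T := by
    refine (Subgroup.eq_of_le_of_card_ge hS ?_).symm
    exact Nat.card_le_card_of_injective
      (fun s : (S : Subgroup T) => (⟨⟨t * ((s : T) : G) * t⁻¹, (hconj s s.2).2⟩, hconj s s.2⟩ :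
        A.subgroupOf T))
      (fun a b e => by
        have := congrArg (fun w : A.subgroupOf T => ((w : T) : G)) e
        simpa using this)
  -- some element of `T` normalizes `A` and does not centralize it
  obtain ⟨n, hnN, hnC⟩ : ∃ n : T, n ∈ Subgroup.normalizer ((S : Subgroup T) : Set T) ∧
      n ∉ Subgroup.centralizer ((S : Subgroup T) : Set T) := by
    by_contra hcon
    push Not at hcon
    have hcomp := MonoidHom.ker_transferSylow_isComplement' S hcon
    have hkn : (MonoidHom.transferSylow S hcon).ker.Normal := inferInstance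
    rcases hkn.eq_bot_or_eq_top with h | h
    · rw [h, Subgroup.isComplement'_bot_left] at hcomp
      have hp : IsPGroup 2 (⊤ : Subgroup T) := hcomp ▸ S.isPGroup'
      have : Group.IsNilpotent T := (hp.of_equiv Subgroup.topEquiv).isNilpotent
      exact hTna ⟨⟨IsSimpleGroup.comm_iff_isSolvable.2 inferInstance⟩⟩
    · have h1 := hcomp.card_mul_card
      rw [h, Subgroup.card_top] at h1
      have h2 : Nat.card (S : Subgroup T) = 1 := by
        have := Nat.card_pos (α := T)
        nlinarith [h1]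
      exact S.ne_bot_of_dvd_card hT2 (Subgroup.card_eq_one.1 h2)
  have hnA : ∀ a ∈ A, (n : G) * a * (n : G)⁻¹ ∈ A := by
    intro a ha
    have : (⟨a, ha.2⟩ : T) ∈ (S : Subgroup T) := hSA.ge ha
    exact hSA.le ((Subgroup.mem_normalizer_iff.1 hnN _).1 this)
  have hnA' : ∀ a, (n : G) * a * (n : G)⁻¹ ∈ A → a ∈ A := by
    intro a ha
    have haT : a ∈ T := by simpa [mul_assoc] using hTn.conj_mem _ ha.2 (n : G)⁻¹
    exact hSA.le ((Subgroup.mem_normalizer_iff.1 hnN ⟨a, haT⟩).2 (hSA.ge (by exact ha)))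
  -- correct it by an element of the odd part of the centralizer of `A`
  set C1 := Subgroup.centralizer (A : Set G) with hC1
  have hPC1 : (P : Subgroup G) ≤ C1 := fun p hp =>
    Subgroup.centralizer_le (fun a (ha : a ∈ A) => ha.1) (le_centralizer_self hab hp)
  have hnP : ((n : G) • P : Sylow 2 G) ≤ C1 := by
    rintro _ ⟨p, hp, rfl⟩
    refine Subgroup.mem_centralizer_iff.2 fun a ha => ?_
    have ha' : (n : G)⁻¹ * a * n ∈ A := hnA' _ (by simpa [mul_assoc] using ha)
    have := Subgroup.mem_centralizer_iff.1 (hPC1 hp) _ ha'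
    show a * ((n : G) * p * (n : G)⁻¹) = (n : G) * p * (n : G)⁻¹ * a
    calc a * ((n : G) * p * (n : G)⁻¹) = (n : G) * ((n : G)⁻¹ * a * n * p) * (n : G)⁻¹ := by group
      _ = (n : G) * (p * ((n : G)⁻¹ * a * n)) * (n : G)⁻¹ := by rw [this]
      _ = _ := by group
  have hC1x : C1 ≤ Subgroup.centralizer ({y} : Set G) :=
    Subgroup.centralizer_le (Set.singleton_subset_iff.2 ⟨hxP, hyT⟩)
  obtain ⟨W, hWn, hWc, hWp⟩ := CfsgLib.Transfer.hasNormalPComplement_iff_exists.1
    (hasNormalPComplement_of_le hab hfr hxP hy1 hC1x)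
  obtain ⟨h, hh⟩ := MulAction.exists_smul_eq C1 ((((n : G) • P : Sylow 2 G)).subtype hnP)
    (P.subtype hPC1)
  obtain ⟨w, hw, p, hp, hwp⟩ : ∃ w ∈ W, ∃ p ∈ ((P.subtype hPC1 : Sylow 2 C1) : Subgroup C1),
      p * w = h := by
    have htop : ((P.subtype hPC1 : Sylow 2 C1) : Subgroup C1) ⊔ W = ⊤ := by
      refine Subgroup.index_eq_one.1 (Nat.eq_one_of_dvd_coprimes ?_
        (Subgroup.index_dvd_of_le le_sup_left) (Subgroup.index_dvd_of_le le_sup_right))
      obtain ⟨k, hk⟩ := IsPGroup.iff_card.1 hWp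
      rw [Subgroup.index_eq_card W, hk]
      exact ((Nat.Prime.coprime_iff_not_dvd Nat.prime_two).2
        (P.subtype hPC1).not_dvd_index).symm.pow_right k
    have hm : h ∈ ((P.subtype hPC1 : Sylow 2 C1) : Subgroup C1) ⊔ W := htop ▸ Subgroup.mem_top h
    rw [← SetLike.mem_coe, Subgroup.mul_normal] at hm
    obtain ⟨a, ha, b, hb, e⟩ := hm
    exact ⟨b, hb, a, ha, e⟩
  set s : G := (w : G) * n with hs
  have hsN : s ∈ Subgroup.normalizer ((P : Subgroup G) : Set G) := by
    have hsP : ∀ q ∈ (P : Subgroup G), s * q * s⁻¹ ∈ (P : Subgroup G) := by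
      intro q hq
      have hq' : (n : G) * q * (n : G)⁻¹ ∈ ((n : G) • P : Sylow 2 G) := ⟨q, hq, rfl⟩
      have h1 : h * (⟨_, hnP hq'⟩ : C1) * h⁻¹ ∈ ((P.subtype hPC1 : Sylow 2 C1) : Subgroup C1) := by
        rw [← hh]; exact ⟨⟨_, hnP hq'⟩, hq', rfl⟩
      have h2 := mul_mem (mul_mem (inv_mem hp) h1) hp
      rw [← hwp] at h2
      have e : p⁻¹ * (p * w * (⟨_, hnP hq'⟩ : C1) * (p * w)⁻¹) * p = w * ⟨_, hnP hq'⟩ * w⁻¹ := by
        group
      rw [e] at h2
      have h3 : (w : G) * ((n : G) * q * (n : G)⁻¹) * (w : G)⁻¹ ∈ (P : Subgroup G) := h2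
      convert h3 using 1
      rw [hs]; group
    refine Subgroup.mem_normalizer_iff.2 fun q => ⟨hsP q, fun hq => ?_⟩
    have hmap : (P : Subgroup G).map (MulAut.conj s).toMonoidHom = (P : Subgroup G) := by
      refine Subgroup.eq_of_le_of_card_ge ?_ (Subgroup.card_map_of_injective (MulEquiv.injective _)).ge
      rintro _ ⟨z, hz, rfl⟩
      exact hsP z hz
    obtain ⟨z, hz, e⟩ := hmap.ge hq
    have : z = q := (MulAut.conj s).injective e
    rwa [← this]
  have hsC : s ∉ Subgroup.centralizer ((P : Subgroup G) : Set G) := fun hsC => hnC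
    (Subgroup.mem_centralizer_iff.2 fun a ha => Subtype.ext (by
      have haA : (a : G) ∈ A := hSA.le ha
      have h1 := Subgroup.mem_centralizer_iff.1 hsC _ haA.1
      have h2 := Subgroup.mem_centralizer_iff.1 w.2 _ haA
      rw [hs] at h1
      show (a : G) * n = n * a
      refine mul_left_cancel (a := (w : G)) ?_
      rw [← mul_assoc, ← h2, mul_assoc, h1, mul_assoc]))
  -- the commutators with `s` lie in `A`
  have hcomm : ∀ q ∈ (P : Subgroup G), q⁻¹ * (s * q * s⁻¹) ∈ A := by
    intro q hq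
    have hP' : q⁻¹ * (s * q * s⁻¹) ∈ (P : Subgroup G) :=
      mul_mem (inv_mem hq) ((Subgroup.mem_normalizer_iff.1 hsN q).1 hq)
    refine ⟨hP', (QuotientGroup.eq_one_iff (N := T) _).1 ?_⟩
    set v : C1 := (⟨q, hPC1 hq⟩ : C1)⁻¹ * w * ⟨q, hPC1 hq⟩ * w⁻¹ with hv
    have hvW : v ∈ W := by
      have := mul_mem (hWn.conj_mem w hw (⟨q, hPC1 hq⟩ : C1)⁻¹) (inv_mem hw)
      simpa [hv] using this
    have hn1 : ((n : G) : G ⧸ T) = 1 := (QuotientGroup.eq_one_iff _).2 n.2
    have e : ((q⁻¹ * (s * q * s⁻¹) : G) : G ⧸ T) = QuotientGroup.mk' T (v : G) := by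
      simp [hs, hv, hn1, mul_assoc]
    obtain ⟨k, hk⟩ := IsPGroup.iff_orderOf.1 P.isPGroup' ⟨_, hP'⟩
    rw [Subgroup.orderOf_mk] at hk
    refine orderOf_eq_one_iff.1 (Nat.eq_one_of_dvd_coprimes
      ((hWc.coprime_dvd_left (Subgroup.orderOf_dvd_natCard _ hvW)).pow_right k) ?_
      (hk ▸ orderOf_map_dvd (QuotientGroup.mk' T) _))
    rw [e, ← Subgroup.orderOf_coe v]
    exact orderOf_map_dvd _ _
  have hPA : (P : Subgroup G) ≤ A := by
    refine (Subgroup.eq_of_le_of_card_ge inf_le_left (Nat.card_le_card_of_injective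
      (fun q : (P : Subgroup G) => (⟨(q : G)⁻¹ * (s * q * s⁻¹), hcomm q q.2⟩ : A)) ?_)).ge
    intro a b e
    have e' := congrArg Subtype.val e
    simp only at e'
    have hfix : s * ((b : G) * (a : G)⁻¹) * s⁻¹ = (b : G) * (a : G)⁻¹ := by
      have h1 : s * (a : G) * s⁻¹ = (a : G) * ((b : G)⁻¹ * (s * b * s⁻¹)) := by
        rw [← e']; group
      calc s * ((b : G) * (a : G)⁻¹) * s⁻¹ = s * b * s⁻¹ * (s * a * s⁻¹)⁻¹ := by group
        _ = s * b * s⁻¹ * ((s * b * s⁻¹)⁻¹ * (b : G) * (a : G)⁻¹) := by rw [h1]; group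
        _ = _ := by group
    by_contra hne
    exact hsC (hfr s hsN _ (mul_mem b.2 (inv_mem a.2))
      (fun h => hne (Subtype.ext (mul_inv_eq_one.1 h).symm)) hfix)
  refine ⟨hPA.trans inf_le_right, n, n.2, ?_, fun hnc => hnC ?_⟩
  · refine Subgroup.mem_normalizer_iff.2 fun q => ?_
    exact ⟨fun hq => (hnA q (hPA hq)).1, fun hq => (hnA' q (hPA hq)).1⟩
  · exact Subgroup.mem_centralizer_iff.2 fun a ha => Subtype.ext
      (Subgroup.mem_centralizer_iff.1 hnc _ (hSA.le ha).1)

end CfsgLib.PrimeInertial
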